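import Cfsg.Agent.Mrg.ParSys.Core
import Cfsg.Agent.LieRecognition.FeitHigmanGroup
import Cfsg.Agent.Schreier.BNSch
import Mathlib
import Cfsg.Agent.Mrg.Omega.BTwo.Conj
set_option linter.all false

section


/-!
# A parabolic system with tori is a BN-pair
-/

set_option autoImplicit false

namespace Cfsg.Agent.ParSys

open Subgroup

variable {G : Type*} [Group G] {I : Type*}

namespace Data

variable {B : Subgroup G} {P : I → Subgroup G} {n : I → G} {H U : Subgroup G} {m : I → I → ℕ}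
  {Adm : Subgroup G → Prop} (D : Data B P n H U m Adm)

include D

/-- `x = n_f h` with `f` good and `h ∈ H` -/
def InN (_ : Data B P n H U m Adm) (x : G) : Prop := ∃ f, Tr B P n U f ∧ ∃ h ∈ H, x = nw n f * h

theorem inN_mul_n {x : G} (hx : D.InN x) (i : I) : D.InN (x * n i) := by
  obtain ⟨f, hf, h, hh, rfl⟩ := hx
  have hh' := D.conj' i h hh
  rcases D.good_or f hf i with h1 | ⟨g, hg⟩
  · refine ⟨f ++ [i], h1, _, hh', ?_⟩
    rw [nw_append]
    simp only [nw_cons, nw_nil, mul_one]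
    group
  · have h2 := D.tr_br D.adm_U hg hf
    rw [Tr_append] at h2
    have h3 := D.nw_br hg
    set k := (nw n f)⁻¹ * nw n (g ++ [i]) with hk
    have e : nw n f = nw n g * n i * k⁻¹ := by
      rw [hk, nw_append]
      simp only [nw_cons, nw_nil, mul_one]
      group
    refine ⟨g, h2.1, (n i * n i) * ((n i)⁻¹ * (k⁻¹ * h) * n i), mul_mem (D.sq i)
      (D.conj' i _ (mul_mem (inv_mem h3) hh)), ?_⟩
    rw [e]; group

/-- the subgroup `N` -/
def N (_ : Data B P n H U m Adm) : Subgroup G := closure (H ∪ Set.range n)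

theorem H_le_N : H ≤ D.N := fun _ hx => subset_closure (Or.inl hx)

theorem n_mem_N (i : I) : n i ∈ D.N := subset_closure (Or.inr ⟨i, rfl⟩)

theorem nw_mem_N (f : List I) : nw n f ∈ D.N := by
  induction f with
  | nil => exact one_mem _
  | cons i f ih => rw [nw_cons]; exact mul_mem (D.n_mem_N i) ih

theorem inN_of_mem {x : G} (hx : x ∈ D.N) : D.InN x := by
  induction hx using Subgroup.closure_induction_right with
  | one => exact ⟨[], trivial, 1, one_mem _, by simp⟩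
  | mul_right x hx y hy ih =>
    rcases hy with hy | ⟨i, rfl⟩
    · obtain ⟨f, hf, h, hh, rfl⟩ := ih
      exact ⟨f, hf, h * y, mul_mem hh hy, by group⟩
    · exact D.inN_mul_n ih i
  | mul_inv_cancel x hx y hy ih =>
    rcases hy with hy | ⟨i, rfl⟩
    · obtain ⟨f, hf, h, hh, rfl⟩ := ih
      exact ⟨f, hf, h * y⁻¹, mul_mem hh (inv_mem hy), by group⟩
    · obtain ⟨f, hf, h, hh, e⟩ := D.inN_mul_n ih i
      refine ⟨f, hf, h * (n i * n i)⁻¹, mul_mem hh (inv_mem (D.sq i)), ?_⟩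
      have : x = nw n f * h * (n i)⁻¹ := by rw [← e]; group
      rw [this]; group

theorem conj_N {x : G} (hx : x ∈ D.N) {h : G} (hh : h ∈ H) : x * h * x⁻¹ ∈ H := by
  obtain ⟨f, -, k, hk, rfl⟩ := D.inN_of_mem hx
  have := D.conj_nw f _ (mul_mem (mul_mem hk hh) (inv_mem hk))
  have e : nw n f * k * h * (nw n f * k)⁻¹ = nw n f * (k * h * k⁻¹) * (nw n f)⁻¹ := by group
  rw [e]; exact this

/-- the last step of a gallery -/
theorem last_step {f : List I} {i : I} (hf : Tr B P n U (f ++ [i])) {x : G} (hx : x ∈ P i) (hxB : x ∉ B) :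
    ∃ u ∈ U, (u * (nw n f * n i))⁻¹ * (nw n f * x) ∈ B := by
  rw [tr_iff D.le D.n_mem D.n_not U D.U_le] at hf
  have hg : GalE B P (f ++ [i]) (f.map n ++ [x]) :=
    galE_append (galE_std D.n_mem D.n_not f) ⟨⟨hx, hxB⟩, trivial⟩
  obtain ⟨u, hu, hA⟩ := hf _ hg
  have := Ag_end hg hA
  refine ⟨u, hu, ?_⟩
  simpa [nw_append, nw] using this

/-- a good nonempty word does not represent an element of `B` -/
theorem nw_not_mem {f : List I} (hf : Tr B P n U f) (hne : f ≠ []) : nw n f ∉ B := by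
  intro hB
  rcases List.eq_nil_or_concat f with rfl | ⟨g, i, rfl⟩
  · exact hne rfl
  rw [List.concat_eq_append] at *
  obtain ⟨x, hx, hxB, hx2⟩ := D.three i
  obtain ⟨u, hu, h⟩ := D.last_step hf hx hxB
  rw [nw_append] at hB
  simp only [nw_cons, nw_nil, mul_one] at hB
  apply hx2
  have h1 := mul_mem (mul_mem (D.U_le hu) hB) h
  have e : u * (nw n g * n i) * ((u * (nw n g * n i))⁻¹ * (nw n g * x)) = nw n g * x := by group
  rw [e] at h1
  have h2 := mul_mem (inv_mem hB) h1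
  have e2 : (nw n g * n i)⁻¹ * (nw n g * x) = (n i)⁻¹ * x := by group
  rwa [e2] at h2

theorem N_inf_B {x : G} (hx : x ∈ D.N) (hB : x ∈ B) : x ∈ H := by
  obtain ⟨f, hf, h, hh, rfl⟩ := D.inN_of_mem hx
  have h1 : nw n f ∈ B := by
    have := mul_mem hB (inv_mem (D.H_le hh))
    rwa [mul_inv_cancel_right] at this
  rcases eq_or_ne f [] with rfl | hne
  · simpa using hh
  · exact absurd h1 (D.nw_not_mem hf hne)

theorem inf_eq : B ⊓ D.N = H :=
  le_antisymm (fun _ hx => D.N_inf_B hx.2 hx.1) (le_inf D.H_le D.H_le_N)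

theorem good_alt {i j : I} (hij : i ≠ j) {k : ℕ} (hk : k ≤ m i j) : Tr B P n U (alt i j k) := by
  have h := D.g1 i j hij U D.adm_U (D.pan i) (D.pan j)
  obtain ⟨v, hv⟩ := alt_prefix i j hk
  rw [hv, Tr_append] at h
  exact h.1

theorem inj {i j : I} (h : (n i)⁻¹ * n j ∈ B) : i = j := by
  by_contra hij
  apply D.nw_not_mem (D.good_alt hij (D.m_two i j hij)) (by simp [alt_cons])
  have e : nw n (alt i j 2) = (n i * n i) * ((n i)⁻¹ * n j) := by
    simp only [alt_cons, alt_zero, nw_cons, nw_nil, mul_one]; group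
  rw [e]
  exact mul_mem (D.H_le (D.sq i)) h

theorem P_inf {i j : I} (hij : i ≠ j) {x : G} (hi : x ∈ P i) (hj : x ∈ P j) : x ∈ B := by
  by_contra hx
  have hg := D.good_alt hij (D.m_two i j hij)
  have h1 : Tr B P n U [i, j] := hg
  rw [tr_iff D.le D.n_mem D.n_not U D.U_le] at h1
  have hG : GalE B P [i, j] [x, x⁻¹] := ⟨⟨hi, hx⟩, ⟨inv_mem hj, fun h => hx (by simpa using inv_mem h)⟩, trivial⟩
  obtain ⟨u, hu, hA⟩ := h1 _ hG
  have h2 := Ag_end hG hA
  apply D.nw_not_mem hg (by simp [alt_cons])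
  have e : (u * nw n [i, j])⁻¹ * (1 * [x, x⁻¹].prod) = (nw n [i, j])⁻¹ * u⁻¹ := by simp
  rw [e] at h2
  have h3 := inv_mem (mul_mem h2 (D.U_le hu))
  rw [inv_mul_cancel_right, inv_inv] at h3
  exact h3

theorem mem_panel {i : I} {x : G} (hx : x ∈ P i) : x ∈ B ∨ ∃ u ∈ U, ∃ b ∈ B, x = u * n i * b := by
  by_cases h : x ∈ B
  · exact Or.inl h
  · obtain ⟨u, hu, h1⟩ := D.pan i x hx h
    exact Or.inr ⟨u, hu, _, h1, by group⟩

theorem sup_eq_top : B ⊔ D.N = ⊤ := by
  rw [eq_top_iff, ← D.gen, iSup_le_iff]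
  intro i x hx
  have hB : B ≤ B ⊔ D.N := le_sup_left
  rcases D.mem_panel hx with h | ⟨u, hu, b, hb, rfl⟩
  · exact hB h
  · exact mul_mem (mul_mem (hB (D.U_le hu)) ((le_sup_right : D.N ≤ _) (D.n_mem_N i))) (hB hb)

/-- the double coset condition, on the right -/
theorem right_mem {x : G} (hx : x ∈ D.N) {b : G} (hb : b ∈ B) (i : I) :
    (∃ c ∈ B, ∃ d ∈ B, x * b * n i = c * (x * n i) * d) ∨ ∃ c ∈ B, ∃ d ∈ B, x * b * n i = c * x * d := by
  obtain ⟨f, hf, h, hh, rfl⟩ := D.inN_of_mem hx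
  have hhB := D.H_le hh
  have hh' := D.H_le (D.conj' i h hh)
  rcases D.good_or f hf i with h1 | ⟨g, hg⟩
  · left
    have hx1 : h * b * n i ∈ P i := mul_mem (D.le i (mul_mem hhB hb)) (D.n_mem i)
    have hx2 : h * b * n i ∉ B := fun h2 => D.n_not i (by
      have := mul_mem (inv_mem (mul_mem hhB hb)) h2
      rwa [inv_mul_cancel_left] at this)
    obtain ⟨u, hu, h3⟩ := D.last_step h1 hx1 hx2
    refine ⟨u, D.U_le hu, ((n i)⁻¹ * h * n i)⁻¹ * ((u * (nw n f * n i))⁻¹ * (nw n f * (h * b * n i))),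
      mul_mem (inv_mem hh') h3, ?_⟩
    group
  · have h2 := D.tr_br D.adm_U hg hf
    have h3 := D.nw_br hg
    set k := (nw n f)⁻¹ * nw n (g ++ [i]) with hk
    have hkB := D.H_le h3
    have e : nw n f = nw n g * n i * k⁻¹ := by
      rw [hk, nw_append]
      simp only [nw_cons, nw_nil, mul_one]
      group
    set y := n i * (k⁻¹ * h * b) * n i with hy
    have hyP : y ∈ P i :=
      mul_mem (mul_mem (D.n_mem i) (D.le i (mul_mem (mul_mem (inv_mem hkB) hhB) hb))) (D.n_mem i)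
    have exy : nw n f * h * b * n i = nw n g * y := by rw [e, hy]; group
    by_cases hyB : y ∈ B
    · left
      -- `n_f h n_i ∈ n_g B`
      have h5 : (n i * n i) * ((n i)⁻¹ * (k⁻¹ * h) * n i) ∈ H :=
        mul_mem (D.sq i) (D.conj' i _ (mul_mem (inv_mem h3) hh))
      refine ⟨1, one_mem _, ((n i * n i) * ((n i)⁻¹ * (k⁻¹ * h) * n i))⁻¹ * y,
        mul_mem (inv_mem (D.H_le h5)) hyB, ?_⟩
      rw [exy, e]; group
    · right
      obtain ⟨u, hu, h6⟩ := D.last_step h2 hyP hyB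
      refine ⟨u, D.U_le hu, (k⁻¹ * h)⁻¹ * ((u * (nw n g * n i))⁻¹ * (nw n g * y)),
        mul_mem (inv_mem (mul_mem (inv_mem hkB) hhB)) h6, ?_⟩
      rw [exy, e]; group

/-- the BN-pair -/
def bnPair : Cfsg.BNPair G where
  B := B
  N := D.N
  S := Set.range n
  sup_eq_top := D.sup_eq_top
  conj_mem := by
    intro x hx t ht
    exact D.H_le (D.conj_N hx (D.N_inf_B ht.2 ht.1))
  subset := by rintro _ ⟨i, rfl⟩; exact D.n_mem_N i
  sq_mem := by rintro _ ⟨i, rfl⟩; exact D.H_le (D.sq i)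
  inj := by rintro _ ⟨i, rfl⟩ _ ⟨j, rfl⟩ h; rw [D.inj h]
  closure_sup := by
    rw [D.inf_eq]
    apply le_antisymm
    · rw [sup_le_iff, closure_le]
      exact ⟨by rintro _ ⟨i, rfl⟩; exact D.n_mem_N i, D.H_le_N⟩
    · show Subgroup.closure _ ≤ _
      rw [closure_le]
      rintro x (hx | hx)
      · exact (le_sup_right : H ≤ _) hx
      · exact (le_sup_left : closure (Set.range n) ≤ _) (subset_closure hx)
  mul_mem_union := by
    rintro _ ⟨i, rfl⟩ x hx b hb
    have hs := D.H_le (D.sq i)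
    have h := D.right_mem (inv_mem hx) (mul_mem (inv_mem hb) (inv_mem hs)) i
    have e : x⁻¹ * (b⁻¹ * (n i * n i)⁻¹) * n i = (n i * b * x)⁻¹ := by group
    rw [e] at h
    rcases h with ⟨c, hc, d, hd, h⟩ | ⟨c, hc, d, hd, h⟩
    · left
      rw [DoubleCoset.mem_doubleCoset]
      refine ⟨d⁻¹ * (n i * n i)⁻¹, mul_mem (inv_mem hd) (inv_mem hs), c⁻¹, inv_mem hc, ?_⟩
      have h1 := congrArg (·⁻¹) h
      simp only [inv_inv] at h1
      rw [h1]; group
    · right
      rw [DoubleCoset.mem_doubleCoset]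
      refine ⟨d⁻¹, inv_mem hd, c⁻¹, inv_mem hc, ?_⟩
      have h1 := congrArg (·⁻¹) h
      simp only [inv_inv] at h1
      rw [h1]; group
  conj_ne := by
    rintro _ ⟨i, rfl⟩ h
    obtain ⟨x, hx, hxB, hx2⟩ := D.three i
    obtain ⟨u, hu, h1⟩ := D.pan i x hx hxB
    apply hx2
    have h2 : n i * u * n i ∈ (B : Set G) := by
      rw [← h]; exact ⟨u, D.U_le hu, rfl⟩
    have h3 : n i * u * n i ∈ B := h2
    have h4 := mul_mem (mul_mem (inv_mem (D.H_le (D.sq i))) h3) h1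
    have e : (n i * n i)⁻¹ * (n i * u * n i) * ((u * n i)⁻¹ * x) = (n i)⁻¹ * x := by group
    rwa [e] at h4

theorem n_injective : Function.Injective n := fun i j h => D.inj (by rw [h]; simp [one_mem])

theorem rank_bnPair : D.bnPair.rank = Nat.card I := by
  show Nat.card (Set.range n) = Nat.card I
  exact Nat.card_range_of_injective D.n_injective

/-- nodes with `3 ≤ m i j` do not commute -/
theorem comm_not_mem {i j : I} (hij : i ≠ j) (h3 : 3 ≤ m i j) : n i * n j * (n i)⁻¹ * (n j)⁻¹ ∉ B := by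
  intro hB
  have hN : n i * n j * (n i)⁻¹ * (n j)⁻¹ ∈ D.N :=
    mul_mem (mul_mem (mul_mem (D.n_mem_N i) (D.n_mem_N j)) (inv_mem (D.n_mem_N i))) (inv_mem (D.n_mem_N j))
  have hH := D.N_inf_B hN hB
  -- the word `i j i`
  have hg : Tr B P n U (alt i j 3) := D.good_alt hij h3
  have hg' : Tr B P n U ([i, j] ++ [i]) := hg
  obtain ⟨x, hx, hxB, hx2⟩ := D.three i
  -- the end of the gallery `n i, n j, y` lies in `P j` for every `y ∈ P i - B`
  have key : ∀ y ∈ P i, y ∉ B → nw n [i, j] * y ∈ P j := by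
    intro y hy hyB
    obtain ⟨u, hu, h⟩ := D.last_step hg' hy hyB
    have e1 : nw n [i, j] * n i ∈ P j := by
      have e : nw n [i, j] * n i = (n i * n j * (n i)⁻¹ * (n j)⁻¹) * n j * (n i * n i) := by
        simp only [nw_cons, nw_nil, mul_one]; group
      rw [e]
      exact mul_mem (mul_mem (D.le j hB) (D.n_mem j)) (D.le j (D.H_le (D.sq i)))
    have h1 := mul_mem (mul_mem (D.le j (D.U_le hu)) e1) (D.le j h)
    have e2 : u * (nw n [i, j] * n i) * ((u * (nw n [i, j] * n i))⁻¹ * (nw n [i, j] * y)) = nw n [i, j] * y := by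
      group
    rwa [e2] at h1
  have h1 := key (n i) (D.n_mem i) (D.n_not i)
  have h2 := key x hx hxB
  have h4 := mul_mem (inv_mem h1) h2
  have e : (nw n [i, j] * n i)⁻¹ * (nw n [i, j] * x) = (n i)⁻¹ * x := by group
  rw [e] at h4
  exact hx2 (D.P_inf hij (mul_mem (inv_mem (D.n_mem i)) hx) h4)

theorem irreducible (hconn : ∀ J : Set I, J.Nonempty → Jᶜ.Nonempty → ∃ i ∈ J, ∃ j ∈ Jᶜ, 3 ≤ m i j) :
    D.bnPair.Irreducible := by
  intro J hJ hne hne'
  have hJ' : J ⊆ Set.range n := hJ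
  obtain ⟨s, hs⟩ := hne
  obtain ⟨i0, hi0⟩ := hJ' hs
  obtain ⟨s', hs', hs2⟩ := hne'
  obtain ⟨j0, hj0⟩ := hs'
  obtain ⟨i, hi, j, hj, h3⟩ := hconn {i | n i ∈ J} ⟨i0, show n i0 ∈ J by rw [hi0]; exact hs⟩
    ⟨j0, show n j0 ∉ J by rw [hj0]; exact hs2⟩
  have hij : i ≠ j := by rintro rfl; exact hj hi
  exact ⟨n i, hi, n j, ⟨⟨j, rfl⟩, hj⟩, D.comm_not_mem hij h3⟩

end Data

end Cfsg.Agent.ParSys

end

section


/-!
# Generalised polygons: the residues of rank two

`Polygon B P a b m`: the galleries of type `alt a b m` and `alt b a m` which start in `B` behave as in a generalised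
`m`-gon on whose opposite pairs `B` is transitive.  `Polygon` gives the fields `unq`, `braid` (up to the torus) and the
transitivity of `U` for the structure `Data`; it is proved for groups with a (B,N)-pair of rank two and transferred along
chamber preserving maps (`Link`).
-/

set_option autoImplicit false

namespace Cfsg.Agent.ParSys

open Subgroup

variable {G : Type*} [Group G] {I : Type*}

/-- the galleries `l` (starting in `t B`) and `l'` (starting in `s B`) have the same chambers -/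
def Same (B : Subgroup G) : G → G → List G → List G → Prop
  | t, s, [], [] => t⁻¹ * s ∈ B
  | _, _, [], _ :: _ => False
  | _, _, _ :: _, [] => False
  | t, s, x :: l, y :: l' => t⁻¹ * s ∈ B ∧ Same B (t * x) (s * y) l l'

section same

variable {B : Subgroup G}

theorem same_first {t s : G} {l l' : List G} (h : Same B t s l l') : t⁻¹ * s ∈ B := by
  cases l with
  | nil =>
    cases l' with
    | nil => exact h
    | cons y l' => exact h.elim
  | cons x l =>
    cases l' with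
    | nil => exact h.elim
    | cons y l' => exact h.1

theorem same_end {t s : G} {l l' : List G} (h : Same B t s l l') : (t * l.prod)⁻¹ * (s * l'.prod) ∈ B := by
  induction l generalizing t s l' with
  | nil =>
    cases l' with
    | nil =>
      have h' : t⁻¹ * s ∈ B := h
      simpa using h'
    | cons y l' => exact h.elim
  | cons x l ih =>
    cases l' with
    | nil => exact h.elim
    | cons y l' =>
      have := ih h.2
      simpa [mul_assoc] using this

theorem same_left {t s z : G} {l l' : List G} (h : Same B t s l l') : Same B (z * t) (z * s) l l' := by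
  induction l generalizing t s l' with
  | nil =>
    cases l' with
    | nil =>
      have h' : t⁻¹ * s ∈ B := h
      show (z * t)⁻¹ * (z * s) ∈ B
      have e : (z * t)⁻¹ * (z * s) = t⁻¹ * s := by group
      rw [e]; exact h'
    | cons y l' => exact h.elim
  | cons x l ih =>
    cases l' with
    | nil => exact h.elim
    | cons y l' =>
      refine ⟨?_, ?_⟩
      · have e : (z * t)⁻¹ * (z * s) = t⁻¹ * s := by group
        rw [e]; exact h.1
      · have := ih h.2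
        rwa [← mul_assoc, ← mul_assoc] at this

theorem same_symm {t s : G} {l l' : List G} (h : Same B t s l l') : Same B s t l' l := by
  have key : ∀ {x y : G}, x⁻¹ * y ∈ B → y⁻¹ * x ∈ B := fun {x y} h => by
    have := inv_mem h
    rwa [mul_inv_rev, inv_inv] at this
  induction l generalizing t s l' with
  | nil =>
    cases l' with
    | nil => exact key h
    | cons y l' => exact h.elim
  | cons x l ih =>
    cases l' with
    | nil => exact h.elim
    | cons y l' => exact ⟨key h.1, ih h.2⟩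

theorem same_trans {t s r : G} {l l' l'' : List G} (h : Same B t s l l') (h' : Same B s r l' l'') :
    Same B t r l l'' := by
  have key : ∀ {x y z : G}, x⁻¹ * y ∈ B → y⁻¹ * z ∈ B → x⁻¹ * z ∈ B := fun {x y z} h h' => by
    have := mul_mem h h'
    rwa [mul_assoc, mul_inv_cancel_left] at this
  induction l generalizing t s r l' l'' with
  | nil =>
    cases l' with
    | nil =>
      cases l'' with
      | nil => exact key h h'
      | cons z l'' => exact h'.elim
    | cons y l' => exact h.elim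
  | cons x l ih =>
    cases l' with
    | nil => exact h.elim
    | cons y l' =>
      cases l'' with
      | nil => exact h'.elim
      | cons z l'' => exact ⟨key h.1 h'.1, ih h.2 h'.2⟩

variable {P : I → Subgroup G} {n : I → G}

theorem ag_of_same {t s : G} {f : List I} {l : List G} (h : Same B t s (f.map n) l) : Ag B n t s f l := by
  induction f generalizing t s l with
  | nil =>
    cases l with
    | nil => exact h
    | cons x l => exact h.elim
  | cons i f ih =>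
    cases l with
    | nil => exact h.elim
    | cons x l => exact ⟨h.1, ih h.2⟩

theorem same_of_ag {t s : G} {f : List I} {l : List G} (hl : GalE B P f l) (h : Ag B n t s f l) :
    Same B t s (f.map n) l := by
  induction f generalizing t s l with
  | nil =>
    cases l with
    | nil => exact h
    | cons x l => exact hl.elim
  | cons i f ih =>
    cases l with
    | nil => exact hl.elim
    | cons x l => exact ⟨h.1, ih hl.2 h.2⟩

/-- moving by an element of the torus -/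
theorem ag_mul_right {H : Subgroup G} (hHB : H ≤ B) (hc : ∀ i, ∀ h ∈ H, (n i)⁻¹ * h * n i ∈ H) {t s h : G}
    (hh : h ∈ H) {f : List I} {l : List G} (hA : Ag B n (t * h) s f l) : Ag B n t s f l := by
  have key : (t * h)⁻¹ * s ∈ B → t⁻¹ * s ∈ B := fun h1 => by
    have := mul_mem (hHB hh) h1
    have e : h * ((t * h)⁻¹ * s) = t⁻¹ * s := by group
    rwa [e] at this
  induction f generalizing t s l h with
  | nil =>
    have h1 : (t * h)⁻¹ * s ∈ B := hA
    exact key h1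
  | cons i f ih =>
    cases l with
    | nil => exact hA.elim
    | cons x l =>
      refine ⟨key hA.1, ?_⟩
      have h2 : Ag B n (t * h * n i) (s * x) f l := hA.2
      have e : t * h * n i = t * n i * ((n i)⁻¹ * h * n i) := by group
      rw [e] at h2
      have hh' := hc i h hh
      exact ih hh' h2 (fun h1 => by
        have := mul_mem (hHB hh') h1
        have e : ((n i)⁻¹ * h * n i) * ((t * n i * ((n i)⁻¹ * h * n i))⁻¹ * (s * x)) =
          (t * n i)⁻¹ * (s * x) := by group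
        rwa [e] at this)

theorem same_std {t s : G} (u v : List I) (h : Same B t s ((u ++ v).map n) ((u ++ v).map n)) :
    (t * nw n u)⁻¹ * (s * nw n u) ∈ B := by
  induction u generalizing t s with
  | nil => simpa using same_first h
  | cons i u ih =>
    have := ih h.2
    rw [nw_cons]
    have e : (t * (n i * nw n u))⁻¹ * (s * (n i * nw n u)) = (t * n i * nw n u)⁻¹ * (s * n i * nw n u) := by
      group
    rw [e]; exact this

theorem galE_length {f : List I} {l : List G} (h : GalE B P f l) : l.length = f.length := by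
  induction f generalizing l with
  | nil =>
    cases l with
    | nil => rfl
    | cons x l => exact h.elim
  | cons i f ih =>
    cases l with
    | nil => exact h.elim
    | cons x l => simp [ih h.2]

end same

/-- The galleries of type `alt a b m` and `alt b a m` from `B` behave as in a generalised `m`-gon. -/
structure Polygon (B : Subgroup G) (P : I → Subgroup G) (a b : I) (m : ℕ) : Prop where
  uniq : ∀ l l', GalE B P (alt a b m) l → GalE B P (alt a b m) l' → l.prod⁻¹ * l'.prod ∈ B → Same B 1 1 l l'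
  uniq' : ∀ l l', GalE B P (alt b a m) l → GalE B P (alt b a m) l' → l.prod⁻¹ * l'.prod ∈ B → Same B 1 1 l l'
  swap : ∃ l l', GalE B P (alt a b m) l ∧ GalE B P (alt b a m) l' ∧ l.prod⁻¹ * l'.prod ∈ B
  trans : ∀ l l', GalE B P (alt a b m) l → GalE B P (alt a b m) l' → ∃ y ∈ B, Same B y 1 l l'
  trans' : ∀ l l', GalE B P (alt b a m) l → GalE B P (alt b a m) l' → ∃ y ∈ B, Same B y 1 l l'

namespace Polygon

variable {B : Subgroup G} {P : I → Subgroup G} {a b : I} {m : ℕ}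

theorem symm (h : Polygon B P a b m) : Polygon B P b a m where
  uniq := h.uniq'
  uniq' := h.uniq
  swap := by
    obtain ⟨l, l', h1, h2, h3⟩ := h.swap
    refine ⟨l', l, h2, h1, ?_⟩
    have := inv_mem h3
    rwa [mul_inv_rev, inv_inv] at this
  trans := h.trans'
  trans' := h.trans

variable {n : I → G}

/-- the field `unq` of `Data` -/
theorem unq (h : Polygon B P a b m) (hle : ∀ i, B ≤ P i) (hn : ∀ i, n i ∈ P i) (hnB : ∀ i, n i ∉ B) :
    ∀ y ∈ B, (nw n (alt a b m))⁻¹ * y * nw n (alt a b m) ∈ B →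
      ∀ k ≤ m, (nw n (alt a b k))⁻¹ * y * nw n (alt a b k) ∈ B := by
  intro y hy hym k hk
  cases m with
  | zero =>
    obtain rfl : k = 0 := by omega
    simpa using hy
  | succ m =>
    have h1 : GalE B P (alt a b (m + 1)) ((alt a b (m + 1)).map n) := galE_std hn hnB _
    have h2 : GalE B P (alt a b (m + 1)) (y * n a :: (alt b a m).map n) := galE_mul hle hy h1
    have e : ((alt a b (m + 1)).map n).prod⁻¹ * (y * n a :: (alt b a m).map n).prod =
        (nw n (alt a b (m + 1)))⁻¹ * y * nw n (alt a b (m + 1)) := by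
      rw [prod_map, List.prod_cons, prod_map, alt_cons, nw_cons]; group
    have h3 := h.uniq _ _ h1 h2 (by rw [e]; exact hym)
    have h4 : Same B 1 y ((alt a b (m + 1)).map n) ((alt a b (m + 1)).map n) := by
      refine ⟨by simpa using hy, ?_⟩
      have h5 := h3.2
      have e1 : (1 : G) * (y * n a) = y * n a := one_mul _
      rw [e1] at h5
      exact h5
    obtain ⟨v, hv⟩ := alt_prefix a b hk
    rw [hv] at h4
    have := same_std (n := n) _ _ h4
    rw [one_mul] at this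
    rwa [mul_assoc]

/-- transitivity of `U` -/
theorem tr (h : Polygon B P a b m) (hle : ∀ i, B ≤ P i) (hn : ∀ i, n i ∈ P i) (hnB : ∀ i, n i ∉ B)
    {U H : Subgroup G} (hU : U ≤ B) (hH : H ≤ B) (hc : ∀ i, ∀ h ∈ H, (n i)⁻¹ * h * n i ∈ H)
    (hBUH : ∀ y ∈ B, ∃ u ∈ U, ∃ h ∈ H, y = u * h) : Tr B P n U (alt a b m) := by
  rw [tr_iff hle hn hnB U hU]
  intro l hl
  obtain ⟨y, hy, h1⟩ := h.trans _ _ (galE_std hn hnB _) hl
  obtain ⟨u, hu, t, ht, rfl⟩ := hBUH y hy
  exact ⟨u, hu, ag_mul_right hH hc ht (ag_of_same h1)⟩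

/-- both forms of the standard word lie in the same `B`-orbit -/
theorem swap_std (h : Polygon B P a b m) (hn : ∀ i, n i ∈ P i) (hnB : ∀ i, n i ∉ B) :
    ∃ y ∈ B, (y * nw n (alt a b m))⁻¹ * nw n (alt b a m) ∈ B := by
  obtain ⟨l, l', h1, h2, h3⟩ := h.swap
  obtain ⟨y, hy, h4⟩ := h.trans _ _ (galE_std hn hnB _) h1
  obtain ⟨z, hz, h5⟩ := h.trans' _ _ (galE_std hn hnB _) h2
  refine ⟨z⁻¹ * y, mul_mem (inv_mem hz) hy, ?_⟩
  have h6 := same_end h4
  have h7 := same_end h5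
  rw [prod_map, one_mul] at h6 h7
  have h8 := mul_mem (mul_mem h6 h3) (inv_mem h7)
  have e : (y * nw n (alt a b m))⁻¹ * l.prod * (l.prod⁻¹ * l'.prod) *
      ((z * nw n (alt b a m))⁻¹ * l'.prod)⁻¹ = (z⁻¹ * y * nw n (alt a b m))⁻¹ * nw n (alt b a m) := by group
  rwa [e] at h8

end Polygon

/-! ### (B,N)-pairs of rank two -/

section bn

open Cfsg.Agent.LieExceptional.BNPairCore

variable {X : Type*} [Group X] {Q : Cfsg.BNPair X} {P : I → Subgroup X} {a b : I} {s t : X}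

theorem mem_C_of_parabolic (hs : s ∈ Q.S) {x : X} (hx : x ∈ Q.parabolic {s}) (hxB : x ∉ Q.B) : x ∈ C Q s := by
  rcases Cfsg.Agent.Schreier.BNSch.mem_parabolic_singleton Q hs hx with h | ⟨c, hc, d, hd, h⟩
  · exact absurd h hxB
  · exact mem_C.2 ⟨c, hc, d, hd, h⟩

/-- all alternating words up to length `m` are reduced -/
theorem gal_mem_C (hs : s ∈ Q.S) (ht : t ∈ Q.S) (hPa : P a = Q.parabolic {s}) (hPb : P b = Q.parabolic {t})
    {k : ℕ} (hk : LieRecognition.FeitHigmanGroup.Red Q s t k) {l : List X} (hl : GalE Q.B P (alt a b k) l) :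
    l.prod ∈ C Q (LieRecognition.FeitHigmanGroup.alt k s t) := by
  induction k generalizing a b s t l with
  | zero =>
    cases l with
    | nil => exact self_mem_C _
    | cons x l => exact hl.elim
  | succ k ih =>
    cases l with
    | nil => exact hl.elim
    | cons x l =>
      obtain ⟨⟨hx, hxB⟩, hl⟩ := hl
      have hk' := hk.pred hs ht
      have h1 := ih ht hs hPb hPa ⟨hk'.2, hk'.1⟩ hl
      rw [hPa] at hx
      obtain ⟨c, hc, d, hd, rfl⟩ := mem_C.1 (mem_C_of_parabolic hs hx hxB)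
      obtain ⟨c', hc', d', hd', h2⟩ := mem_C.1 h1
      rw [List.prod_cons, h2, LieRecognition.FeitHigmanGroup.alt_succ]
      have h3 : s * (d * c') * LieRecognition.FeitHigmanGroup.alt k t s ∈
          C Q (s * LieRecognition.FeitHigmanGroup.alt k t s) := by
        apply mul_mem_C_of_le hs (LieRecognition.FeitHigmanGroup.alt_mem_N ht hs k) (mul_mem hd hc')
        rw [← LieRecognition.FeitHigmanGroup.alt_succ, hk.1, hk'.2]
        exact Nat.le_succ k
      have e : c * s * d * (c' * LieRecognition.FeitHigmanGroup.alt k t s * d') =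
          c * (s * (d * c') * LieRecognition.FeitHigmanGroup.alt k t s) * d' := by group
      rw [e]
      exact mul_mem_C_right hd' (mul_mem_C_left hc h3)

theorem gal_uniq (hs : s ∈ Q.S) (ht : t ∈ Q.S) (hPa : P a = Q.parabolic {s}) (hPb : P b = Q.parabolic {t})
    {k : ℕ} (hk : LieRecognition.FeitHigmanGroup.Red Q s t k) {l l' : List X} (hl : GalE Q.B P (alt a b k) l)
    (hl' : GalE Q.B P (alt a b k) l') {z w : X} (hzw : z⁻¹ * w ∈ Q.B)
    (hend : (z * l.prod)⁻¹ * (w * l'.prod) ∈ Q.B) : Same Q.B z w l l' := by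
  induction k generalizing a b s t l l' z w with
  | zero =>
    cases l with
    | nil =>
      cases l' with
      | nil => exact hzw
      | cons x l => exact hl'.elim
    | cons x l => exact hl.elim
  | succ k ih =>
    cases l with
    | nil => exact hl.elim
    | cons x l =>
      cases l' with
      | nil => exact hl'.elim
      | cons x' l' =>
        have hk' := hk.pred hs ht
        have hBa : Q.B ≤ P a := by rw [hPa]; exact le_sup_left
        refine ⟨hzw, ih ht hs hPb hPa ⟨hk'.2, hk'.1⟩ hl.2 hl'.2 ?_ ?_⟩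
        · by_contra hy
          have hyP : (z * x)⁻¹ * (w * x') ∈ P a := by
            have e : (z * x)⁻¹ * (w * x') = x⁻¹ * (z⁻¹ * w) * x' := by group
            rw [e]
            exact mul_mem (mul_mem (inv_mem hl.1.1) (hBa hzw)) hl'.1.1
          have h1 := gal_mem_C hs ht hPa hPb hk
            (show GalE Q.B P (alt a b (k + 1)) ((z * x)⁻¹ * (w * x') :: l') from ⟨⟨hyP, hy⟩, hl'.2⟩)
          have h2 := gal_mem_C ht hs hPb hPa ⟨hk'.2, hk'.1⟩ hl.2
          have h3 : ((z * x)⁻¹ * (w * x') :: l').prod ∈ C Q (LieRecognition.FeitHigmanGroup.alt k t s) := by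
            have h4 := mul_mem_C_right hend h2
            have e : l.prod * ((z * (x :: l).prod)⁻¹ * (w * (x' :: l').prod)) =
                ((z * x)⁻¹ * (w * x') :: l').prod := by
              simp only [List.prod_cons]; group
            rwa [e] at h4
          exact not_C_mul_left_eq hs (LieRecognition.FeitHigmanGroup.alt_mem_N ht hs k)
            (C_eq_of_mem_mem h1 h3)
        · have e : (z * x * l.prod)⁻¹ * (w * x' * l'.prod) =
              (z * (x :: l).prod)⁻¹ * (w * (x' :: l').prod) := by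
            simp only [List.prod_cons, mul_assoc]
          rw [e]; exact hend

theorem gal_trans (hs : s ∈ Q.S) (ht : t ∈ Q.S) (hPa : P a = Q.parabolic {s}) (hPb : P b = Q.parabolic {t})
    {k : ℕ} (hk : LieRecognition.FeitHigmanGroup.Red Q s t k) {l l' : List X} (hl : GalE Q.B P (alt a b k) l)
    (hl' : GalE Q.B P (alt a b k) l') : ∃ y ∈ Q.B, Same Q.B y 1 l l' := by
  obtain ⟨c, hc, d, hd, h1⟩ := mem_C.1 (gal_mem_C hs ht hPa hPb hk hl)
  obtain ⟨c', hc', d', hd', h2⟩ := mem_C.1 (gal_mem_C hs ht hPa hPb hk hl')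
  refine ⟨c' * c⁻¹, mul_mem hc' (inv_mem hc), gal_uniq hs ht hPa hPb hk hl hl' ?_ ?_⟩
  · simpa using inv_mem (mul_mem hc' (inv_mem hc))
  · have e : (c' * c⁻¹ * l.prod)⁻¹ * (1 * l'.prod) = d⁻¹ * d' := by rw [h1, h2]; group
    rw [e]; exact mul_mem (inv_mem hd) hd'

theorem galE_alt_std (hs : s ∈ Q.S) (ht : t ∈ Q.S) (hPa : P a = Q.parabolic {s}) (hPb : P b = Q.parabolic {t})
    (k : ℕ) : GalE Q.B P (alt a b k) (LieRecognition.FeitHigmanGroup.altWord k s t) := by
  induction k generalizing a b s t with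
  | zero => trivial
  | succ k ih =>
    refine ⟨⟨?_, not_mem_B hs⟩, ih ht hs hPb hPa⟩
    rw [hPa]
    exact (le_sup_right : closure {s} ≤ _) (subset_closure rfl)

/-- **(B,N)-pairs of rank two are polygons.** -/
theorem polygon_of_red (hs : s ∈ Q.S) (ht : t ∈ Q.S) (hPa : P a = Q.parabolic {s}) (hPb : P b = Q.parabolic {t})
    {m : ℕ} (hm : LieRecognition.FeitHigmanGroup.Red Q s t m)
    (hbr : (LieRecognition.FeitHigmanGroup.alt m s t)⁻¹ * LieRecognition.FeitHigmanGroup.alt m t s ∈ Q.B) :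
    Polygon Q.B P a b m where
  uniq := fun l l' hl hl' he => gal_uniq hs ht hPa hPb hm hl hl' (by simp [one_mem]) (by simpa using he)
  uniq' := fun l l' hl hl' he => gal_uniq ht hs hPb hPa ⟨hm.2, hm.1⟩ hl hl' (by simp [one_mem]) (by simpa using he)
  swap := ⟨_, _, galE_alt_std hs ht hPa hPb m, galE_alt_std ht hs hPb hPa m, by
    rw [LieRecognition.FeitHigmanGroup.altWord_prod, LieRecognition.FeitHigmanGroup.altWord_prod]; exact hbr⟩
  trans := fun _ _ hl hl' => gal_trans hs ht hPa hPb hm hl hl'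
  trans' := fun _ _ hl hl' => gal_trans ht hs hPb hPa ⟨hm.2, hm.1⟩ hl hl'

end bn

/-! ### Transfer -/

/-- A bijection between the chambers of the `{a, b}`-residue of `(G, B, P)` and those of `(X, B', P')`, given by a
relation `θ` between group elements, such that the action of `X` lifts. -/
structure Link (B : Subgroup G) (P : I → Subgroup G) (a b : I) {X : Type*} [Group X] (B' : Subgroup X)
    (P' : I → Subgroup X) (θ : G → X → Prop) : Prop where
  one : θ 1 1
  memB : ∀ g e g' e', θ g e → θ g' e' → (g⁻¹ * g' ∈ B ↔ e⁻¹ * e' ∈ B')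
  memP : ∀ i, i = a ∨ i = b → ∀ g e g' e', θ g e → θ g' e' → (g⁻¹ * g' ∈ P i ↔ e⁻¹ * e' ∈ P' i)
  ex : ∀ i, i = a ∨ i = b → ∀ g e, θ g e → ∀ x ∈ P i, ∃ e', θ (g * x) e'
  sur : ∀ e, ∃ g, θ g e
  act : ∀ z, ∃ x, ∀ g e, θ g e → θ (x * g) (z * e)

/-- two galleries correspond to each other -/
def RelG {X : Type*} [Group X] (θ : G → X → Prop) : G → X → List G → List X → Prop
  | g, e, [], [] => θ g e
  | _, _, [], _ :: _ => False
  | _, _, _ :: _, [] => False
  | g, e, x :: l, y :: l' => θ g e ∧ RelG θ (g * x) (e * y) l l'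

namespace Link

variable {X : Type*} [Group X] {B : Subgroup G} {P : I → Subgroup G} {a b : I} {B' : Subgroup X}
  {P' : I → Subgroup X} {θ : G → X → Prop} (L : Link B P a b B' P' θ)

include L

theorem symm : Link B P b a B' P' θ where
  one := L.one
  memB := L.memB
  memP := fun i hi => L.memP i hi.symm
  ex := fun i hi => L.ex i hi.symm
  sur := L.sur
  act := L.act

theorem lift (k : ℕ) : ∀ c d, (c = a ∧ d = b ∨ c = b ∧ d = a) → ∀ g e, θ g e → ∀ l, GalE B P (alt c d k) l →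
    ∃ l', GalE B' P' (alt c d k) l' ∧ RelG θ g e l l' := by
  induction k with
  | zero =>
    intro c d _ g e hge l hl
    cases l with
    | nil => exact ⟨[], trivial, hge⟩
    | cons x l => exact hl.elim
  | succ k ih =>
    intro c d hcd g e hge l hl
    cases l with
    | nil => exact hl.elim
    | cons x l =>
      have hc : c = a ∨ c = b := hcd.imp And.left And.left
      obtain ⟨e', he'⟩ := L.ex c hc g e hge x hl.1.1
      have hdc : d = a ∧ c = b ∨ d = b ∧ c = a := hcd.elim (fun h => Or.inr ⟨h.2, h.1⟩) (fun h => Or.inl ⟨h.2, h.1⟩)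
      have hP := L.memP c hc _ _ _ _ hge he'
      have hB := L.memB _ _ _ _ hge he'
      rw [inv_mul_cancel_left] at hP hB
      obtain ⟨l', hl', hr⟩ := ih d c hdc (g * x) e' he' l hl.2
      refine ⟨e⁻¹ * e' :: l', ⟨⟨hP.1 hl.1.1, fun h => hl.1.2 (hB.2 h)⟩, hl'⟩, hge, ?_⟩
      rwa [mul_inv_cancel_left]

theorem lift' (k : ℕ) : ∀ c d, (c = a ∧ d = b ∨ c = b ∧ d = a) → ∀ g e, θ g e → ∀ l', GalE B' P' (alt c d k) l' →
    ∃ l, GalE B P (alt c d k) l ∧ RelG θ g e l l' := by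
  induction k with
  | zero =>
    intro c d _ g e hge l hl
    cases l with
    | nil => exact ⟨[], trivial, hge⟩
    | cons x l => exact hl.elim
  | succ k ih =>
    intro c d hcd g e hge l hl
    cases l with
    | nil => exact hl.elim
    | cons y l =>
      have hc : c = a ∨ c = b := hcd.imp And.left And.left
      obtain ⟨g', hg'⟩ := L.sur (e * y)
      have hdc : d = a ∧ c = b ∨ d = b ∧ c = a := hcd.elim (fun h => Or.inr ⟨h.2, h.1⟩) (fun h => Or.inl ⟨h.2, h.1⟩)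
      have hP := L.memP c hc _ _ _ _ hge hg'
      have hB := L.memB _ _ _ _ hge hg'
      rw [inv_mul_cancel_left] at hP hB
      obtain ⟨l', hl', hr⟩ := ih d c hdc g' (e * y) hg' l hl.2
      refine ⟨g⁻¹ * g' :: l', ⟨⟨hP.2 hl.1.1, fun h => hl.1.2 (hB.1 h)⟩, hl'⟩, hge, ?_⟩
      rwa [mul_inv_cancel_left]

omit L in
theorem rel_first {g : G} {e : X} {l : List G} {l' : List X} (h : RelG θ g e l l') : θ g e := by
  cases l with
  | nil =>
    cases l' with
    | nil => exact h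
    | cons y l' => exact h.elim
  | cons x l =>
    cases l' with
    | nil => exact h.elim
    | cons y l' => exact h.1

omit L in
theorem rel_end {g : G} {e : X} {l : List G} {l' : List X} (h : RelG θ g e l l') :
    θ (g * l.prod) (e * l'.prod) := by
  induction l generalizing g e l' with
  | nil =>
    cases l' with
    | nil =>
      have h' : θ g e := h
      simpa using h'
    | cons y l' => exact h.elim
  | cons x l ih =>
    cases l' with
    | nil => exact h.elim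
    | cons y l' =>
      have := ih h.2
      simpa [mul_assoc] using this

omit L in
theorem rel_act {x : G} {z : X} (hxz : ∀ g e, θ g e → θ (x * g) (z * e)) {g : G} {e : X} {l : List G}
    {l' : List X} (h : RelG θ g e l l') : RelG θ (x * g) (z * e) l l' := by
  induction l generalizing g e l' with
  | nil =>
    cases l' with
    | nil => exact hxz g e h
    | cons y l' => exact h.elim
  | cons w l ih =>
    cases l' with
    | nil => exact h.elim
    | cons y l' =>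
      refine ⟨hxz g e h.1, ?_⟩
      have := ih h.2
      rwa [← mul_assoc, ← mul_assoc] at this

theorem rel_same {g g' : G} {e e' : X} {l l' : List G} {k k' : List X} (h : RelG θ g e l k)
    (h' : RelG θ g' e' l' k') (hs : Same B' e e' k k') : Same B g g' l l' := by
  induction l generalizing g g' e e' l' k k' with
  | nil =>
    cases k with
    | nil =>
      cases k' with
      | nil =>
        cases l' with
        | nil => exact (L.memB _ _ _ _ h h').2 hs
        | cons _ _ => exact h'.elim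
      | cons _ _ => exact hs.elim
    | cons _ _ => exact h.elim
  | cons x l ih =>
    cases k with
    | nil => exact h.elim
    | cons y k =>
      cases k' with
      | nil => exact hs.elim
      | cons y' k' =>
        cases l' with
        | nil => exact h'.elim
        | cons x' l' => exact ⟨(L.memB _ _ _ _ h.1 h'.1).2 hs.1, ih h.2 h'.2 hs.2⟩

theorem polygon_uniq {m : ℕ} (h : Polygon B' P' a b m) (l l' : List G) (hl : GalE B P (alt a b m) l)
    (hl' : GalE B P (alt a b m) l') (he : l.prod⁻¹ * l'.prod ∈ B) : Same B 1 1 l l' := by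
  obtain ⟨k, hk, hr⟩ := L.lift m a b (Or.inl ⟨rfl, rfl⟩) 1 1 L.one l hl
  obtain ⟨k', hk', hr'⟩ := L.lift m a b (Or.inl ⟨rfl, rfl⟩) 1 1 L.one l' hl'
  refine L.rel_same hr hr' (h.uniq k k' hk hk' ?_)
  have h1 := rel_end hr
  have h2 := rel_end hr'
  rw [one_mul, one_mul] at h1 h2
  exact (L.memB _ _ _ _ h1 h2).1 he

theorem polygon_trans {m : ℕ} (h : Polygon B' P' a b m) (l l' : List G) (hl : GalE B P (alt a b m) l)
    (hl' : GalE B P (alt a b m) l') : ∃ y ∈ B, Same B y 1 l l' := by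
  obtain ⟨k, hk, hr⟩ := L.lift m a b (Or.inl ⟨rfl, rfl⟩) 1 1 L.one l hl
  obtain ⟨k', hk', hr'⟩ := L.lift m a b (Or.inl ⟨rfl, rfl⟩) 1 1 L.one l' hl'
  obtain ⟨z, hz, hs⟩ := h.trans k k' hk hk'
  obtain ⟨x, hx⟩ := L.act z
  have h1 := hx 1 1 L.one
  have h2 := L.memB _ _ _ _ L.one h1
  rw [inv_one, one_mul, mul_one, inv_one, one_mul, mul_one] at h2
  have h3 := rel_act hx hr
  rw [mul_one, mul_one] at h3
  exact ⟨x, h2.2 hz, L.rel_same h3 hr' hs⟩

/-- **Transfer of `Polygon`.** -/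
theorem polygon {m : ℕ} (h : Polygon B' P' a b m) : Polygon B P a b m where
  uniq := L.polygon_uniq h
  uniq' := L.symm.polygon_uniq h.symm
  trans := L.polygon_trans h
  trans' := L.symm.polygon_trans h.symm
  swap := by
    obtain ⟨k, k', hk, hk', he⟩ := h.swap
    obtain ⟨l, hl, hr⟩ := L.lift' m a b (Or.inl ⟨rfl, rfl⟩) 1 1 L.one k hk
    obtain ⟨l', hl', hr'⟩ := L.lift' m b a (Or.inr ⟨rfl, rfl⟩) 1 1 L.one k' hk'
    refine ⟨l, l', hl, hl', ?_⟩
    have h1 := rel_end hr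
    have h2 := rel_end hr'
    rw [one_mul, one_mul] at h1 h2
    exact (L.memB _ _ _ _ h1 h2).2 he

end Link

/-- The usual way to get a `Link`: a homomorphism `φ` from a subgroup `M` of `G` to `L` whose kernel lies in `B`, and a
homomorphism `ε : X → L` with `P i = ε (P' i) B`. -/
theorem link_of_hom {B : Subgroup G} {P : I → Subgroup G} {a b : I} {X : Type*} [Group X] {B' : Subgroup X}
    {P' : I → Subgroup X} {L : Type*} [Group L] (M : Subgroup G) (φ : M →* L) (ε : X →* L) (BL : Subgroup L)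
    (PL : I → Subgroup L) (hPM : ∀ i, i = a ∨ i = b → P i ≤ M)
    (hB : ∀ x : M, (x : G) ∈ B ↔ φ x ∈ BL) (hP : ∀ i, i = a ∨ i = b → ∀ x : M, (x : G) ∈ P i ↔ φ x ∈ PL i)
    (hB' : ∀ e, e ∈ B' ↔ ε e ∈ BL) (hP' : ∀ i, i = a ∨ i = b → ∀ e, e ∈ P' i ↔ ε e ∈ PL i)
    (hBP : ∀ i, i = a ∨ i = b → BL ≤ PL i)
    (hsur : ∀ e, ∃ x, φ x = ε e)
    (hcov : ∀ i, i = a ∨ i = b → ∀ y ∈ PL i, ∃ e, ∃ c ∈ BL, y = ε e * c) :
    Link B P a b B' P' (fun g e => ∃ h : g ∈ M, (φ ⟨g, h⟩)⁻¹ * ε e ∈ BL) where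
  one := ⟨one_mem _, by
    have e : (⟨1, one_mem M⟩ : M) = 1 := rfl
    rw [e, map_one, map_one]; simp [one_mem]⟩
  memB := by
    rintro g e g' e' ⟨h, h1⟩ ⟨h', h1'⟩
    have h2 := hB (⟨g, h⟩⁻¹ * ⟨g', h'⟩)
    rw [map_mul, map_inv] at h2
    rw [hB', map_mul, map_inv]
    have h3 : ((⟨g, h⟩⁻¹ * ⟨g', h'⟩ : M) : G) = g⁻¹ * g' := rfl
    rw [h3] at h2
    rw [h2]
    constructor
    · intro h4
      have := mul_mem (mul_mem (inv_mem h1) h4) h1'
      have e1 : ((φ ⟨g, h⟩)⁻¹ * ε e)⁻¹ * ((φ ⟨g, h⟩)⁻¹ * φ ⟨g', h'⟩) * ((φ ⟨g', h'⟩)⁻¹ * ε e') =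
        (ε e)⁻¹ * ε e' := by group
      rwa [e1] at this
    · intro h4
      have := mul_mem (mul_mem h1 h4) (inv_mem h1')
      have e1 : ((φ ⟨g, h⟩)⁻¹ * ε e) * ((ε e)⁻¹ * ε e') * ((φ ⟨g', h'⟩)⁻¹ * ε e')⁻¹ =
        (φ ⟨g, h⟩)⁻¹ * φ ⟨g', h'⟩ := by group
      rwa [e1] at this
  memP := by
    rintro i hi g e g' e' ⟨h, h1⟩ ⟨h', h1'⟩
    have h1 := hBP i hi h1
    have h1' := hBP i hi h1'
    have h2 := hP i hi (⟨g, h⟩⁻¹ * ⟨g', h'⟩)
    rw [map_mul, map_inv] at h2
    rw [hP' i hi, map_mul, map_inv]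
    have h3 : ((⟨g, h⟩⁻¹ * ⟨g', h'⟩ : M) : G) = g⁻¹ * g' := rfl
    rw [h3] at h2
    rw [h2]
    constructor
    · intro h4
      have := mul_mem (mul_mem (inv_mem h1) h4) h1'
      have e1 : ((φ ⟨g, h⟩)⁻¹ * ε e)⁻¹ * ((φ ⟨g, h⟩)⁻¹ * φ ⟨g', h'⟩) * ((φ ⟨g', h'⟩)⁻¹ * ε e') =
        (ε e)⁻¹ * ε e' := by group
      rwa [e1] at this
    · intro h4
      have := mul_mem (mul_mem h1 h4) (inv_mem h1')
      have e1 : ((φ ⟨g, h⟩)⁻¹ * ε e) * ((ε e)⁻¹ * ε e') * ((φ ⟨g', h'⟩)⁻¹ * ε e')⁻¹ =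
        (φ ⟨g, h⟩)⁻¹ * φ ⟨g', h'⟩ := by group
      rwa [e1] at this
  ex := by
    rintro i hi g e ⟨h, h1⟩ x hx
    have hxM := hPM i hi hx
    have h2 : ((φ ⟨g, h⟩)⁻¹ * ε e)⁻¹ * φ ⟨x, hxM⟩ ∈ PL i :=
      mul_mem (inv_mem (hBP i hi h1)) ((hP i hi ⟨x, hxM⟩).1 hx)
    obtain ⟨e1, c, hc, h3⟩ := hcov i hi _ h2
    refine ⟨e * e1, mul_mem h hxM, ?_⟩
    have e2 : φ ⟨g * x, mul_mem h hxM⟩ = φ ⟨g, h⟩ * φ ⟨x, hxM⟩ := by rw [← map_mul]; rfl
    rw [e2, map_mul]
    have e3 : (φ ⟨g, h⟩ * φ ⟨x, hxM⟩)⁻¹ * (ε e * ε e1) =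
        (((φ ⟨g, h⟩)⁻¹ * ε e)⁻¹ * φ ⟨x, hxM⟩)⁻¹ * ε e1 := by group
    rw [e3, h3]
    have e4 : (ε e1 * c)⁻¹ * ε e1 = c⁻¹ := by group
    rw [e4]; exact inv_mem hc
  sur := by
    intro e
    obtain ⟨x, hx⟩ := hsur e
    refine ⟨x, x.2, ?_⟩
    have e1 : (⟨(x : G), x.2⟩ : M) = x := rfl
    rw [e1, hx]; simp [one_mem]
  act := by
    intro z
    obtain ⟨x, hx⟩ := hsur z
    refine ⟨x, ?_⟩
    rintro g e ⟨h, h1⟩
    refine ⟨mul_mem x.2 h, ?_⟩
    have e2 : φ ⟨x * g, mul_mem x.2 h⟩ = φ x * φ ⟨g, h⟩ := by rw [← map_mul]; rfl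
    rw [e2, map_mul, hx]
    have e3 : (ε z * φ ⟨g, h⟩)⁻¹ * (ε z * ε e) = (φ ⟨g, h⟩)⁻¹ * ε e := by group
    rw [e3]; exact h1

end Cfsg.Agent.ParSys

end

section


/-!
# Adapters for THEOREM FREE (bb #11242): the rank two residues and the panels

`GPp B P i j m`: the condition of `GP` for one pair `i, j`; it follows from helper398's `Polygon` (hence from a (B,N)-pair
of rank two, `polygon_of_red`, also of a quotient, `link_of_hom`), and for `m = 2` from `P i * P j = P j * P i` and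
`P i ∩ P j = B`.  `pan_three`, `pan_index`: the panel condition; `clo_of_coprime`: the closure condition.
-/

set_option autoImplicit false

namespace Cfsg.Agent.ParSys.RankTwo

open Cfsg.Agent.ParSys Cfsg.Agent.ParSys.Free

variable {G : Type*} [Group G] {I : Type*} {B : Subgroup G} {P : I → Subgroup G}

/-- the condition `GP` for one pair -/
def GPp (B : Subgroup G) (P : I → Subgroup G) (i j : I) (m : ℕ) : Prop :=
  ∀ c l, IsGal (adj B P) (alt i j m) c l →
    ∃! l', IsGal (adj B P) (alt j i m) c l' ∧ l'.getLastD c = l.getLastD c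

theorem gp_iff {m : I → I → ℕ} : GP B P m ↔ ∀ i j, i ≠ j → GPp B P i j (m i j) := Iff.rfl

/-- the chambers of the gallery which starts in `x B` and has the quotients `k` -/
def chm (B : Subgroup G) : G → List G → List (G ⧸ B)
  | _, [] => []
  | x, y :: k => ((x * y : G) : G ⧸ B) :: chm B (x * y) k

theorem chm_last (x : G) (k : List G) : (chm B x k).getLastD (x : G ⧸ B) = ((x * k.prod : G) : G ⧸ B) := by
  induction k generalizing x with
  | nil => simp [chm]
  | cons y k ih =>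
    rw [chm, List.getLastD_cons, ih, List.prod_cons, mul_assoc]

theorem isGal_chm (hBP : ∀ i, B ≤ P i) {f : List I} {x : G} {k : List G} (h : GalE B P f k) :
    IsGal (adj B P) f (x : G ⧸ B) (chm B x k) := by
  induction f generalizing x k with
  | nil =>
    cases k with
    | nil => exact isGal_nil_iff.2 rfl
    | cons y k => exact h.elim
  | cons i f ih =>
    cases k with
    | nil => exact h.elim
    | cons y k =>
      rw [chm, isGal_cons_cons]
      refine ⟨?_, ih h.2⟩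
      rw [adj_mk hBP, inv_mul_cancel_left]
      exact h.1

theorem exists_chm (hBP : ∀ i, B ≤ P i) {f : List I} {x : G} {l : List (G ⧸ B)}
    (h : IsGal (adj B P) f (x : G ⧸ B) l) : ∃ k, GalE B P f k ∧ l = chm B x k := by
  induction f generalizing x l with
  | nil => exact ⟨[], trivial, isGal_nil_iff.1 h⟩
  | cons i f ih =>
    obtain ⟨d, l', rfl, h1, h2⟩ := isGal_cons_iff.1 h
    induction d using QuotientGroup.induction_on with
    | _ z =>
    rw [adj_mk hBP] at h1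
    have e : z = x * (x⁻¹ * z) := by group
    rw [e] at h2
    obtain ⟨k, hk, rfl⟩ := ih h2
    exact ⟨(x⁻¹ * z) :: k, ⟨h1, hk⟩, by rw [chm, ← e]⟩

theorem chm_same {t r : G} {k k' : List G} (h : Same B t r k k') : chm B t k = chm B r k' := by
  induction k generalizing t r k' with
  | nil =>
    cases k' with
    | nil => rfl
    | cons y k' => exact h.elim
  | cons x k ih =>
    cases k' with
    | nil => exact h.elim
    | cons y k' =>
      rw [chm, chm, ih h.2, QuotientGroup.eq.2 (same_first h.2)]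

theorem gpp_of_polygon (hBP : ∀ i, B ≤ P i) {i j : I} {m : ℕ} (h : Polygon B P i j m) : GPp B P i j m := by
  intro c l hl
  induction c using QuotientGroup.induction_on with
  | _ x =>
  obtain ⟨k, hk, rfl⟩ := exists_chm hBP hl
  obtain ⟨k0, k1, h0, h1, h01⟩ := h.swap
  obtain ⟨y, hy, hs⟩ := h.trans _ _ h0 hk
  have he := same_end hs
  rw [one_mul] at he
  -- the other gallery
  have hex : ∃ k', GalE B P (alt j i m) k' ∧ k.prod⁻¹ * k'.prod ∈ B := by
    cases k1 with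
    | nil =>
      refine ⟨[], h1, ?_⟩
      have h3 : GalE B P (alt j i m) [] := h1
      have hm : m = 0 := by
        cases m with
        | zero => rfl
        | succ m => exact h3.elim
      subst hm
      have h4 : k = [] := by
        cases k with
        | nil => rfl
        | cons a k => exact hk.elim
      rw [h4]
      simp [one_mem]
    | cons a k1 =>
      obtain ⟨m', rfl⟩ : ∃ m', m = m' + 1 := by
        cases m with
        | zero => exact h1.elim
        | succ m => exact ⟨m, rfl⟩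
      refine ⟨(y * a) :: k1, galE_mul hBP hy h1, ?_⟩
      have h5 := mul_mem (inv_mem he) h01
      have e : ((y * k0.prod)⁻¹ * k.prod)⁻¹ * (k0.prod⁻¹ * (a :: k1).prod) =
          k.prod⁻¹ * ((y * a) :: k1).prod := by
        rw [List.prod_cons, List.prod_cons]; group
      rwa [e] at h5
  obtain ⟨k', hk', hkk⟩ := hex
  refine ⟨chm B x k', ⟨isGal_chm hBP hk', ?_⟩, ?_⟩
  · rw [chm_last, chm_last, QuotientGroup.eq]
    have e : (x * k'.prod)⁻¹ * (x * k.prod) = (k.prod⁻¹ * k'.prod)⁻¹ := by group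
    rw [e]
    exact inv_mem hkk
  · rintro l'' ⟨h2, h3⟩
    obtain ⟨k'', hk'', rfl⟩ := exists_chm hBP h2
    rw [chm_last, chm_last, QuotientGroup.eq] at h3
    have h6 : k'.prod⁻¹ * k''.prod ∈ B := by
      have h7 := mul_mem (inv_mem hkk) (inv_mem h3)
      have e : (k.prod⁻¹ * k'.prod)⁻¹ * ((x * k''.prod)⁻¹ * (x * k.prod))⁻¹ = k'.prod⁻¹ * k''.prod := by group
      rwa [e] at h7
    have h8 := same_left (z := x) (h.uniq' _ _ hk' hk'' h6)
    rw [mul_one] at h8
    exact (chm_same h8).symm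

/-- The product case. -/
theorem gpp_two (hBP : ∀ i, B ≤ P i) {i j : I} (hinf : ∀ x, x ∈ P i → x ∈ P j → x ∈ B)
    (hmul : ∀ p ∈ P i, ∀ q ∈ P j, ∃ q' ∈ P j, ∃ p' ∈ P i, p * q = q' * p') : GPp B P i j 2 := by
  intro c l hl
  induction c using QuotientGroup.induction_on with
  | _ x =>
  obtain ⟨k, hk, rfl⟩ := exists_chm hBP hl
  match k, hk with
  | [], hk => exact hk.elim
  | [_], hk => exact hk.2.elim
  | _ :: _ :: _ :: _, hk => exact hk.2.2.elim
  | [p, q], hk =>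
    obtain ⟨⟨hp, hpB⟩, ⟨hq, hqB⟩, -⟩ := hk
    obtain ⟨q', hq', p', hp', e⟩ := hmul p hp q hq
    have hq'B : q' ∉ B := by
      intro h
      apply hqB
      refine hinf _ ?_ hq
      have e' : q = p⁻¹ * (q' * p') := by rw [← e]; group
      rw [e']
      exact mul_mem (inv_mem hp) (mul_mem (hBP i h) hp')
    have hp'B : p' ∉ B := by
      intro h
      apply hpB
      refine hinf _ hp ?_
      have e' : p = q' * p' * q⁻¹ := by rw [← e]; group
      rw [e']
      exact mul_mem (mul_mem hq' (hBP j h)) (inv_mem hq)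
    have hg : GalE B P (alt j i 2) [q', p'] := ⟨⟨hq', hq'B⟩, ⟨hp', hp'B⟩, trivial⟩
    refine ⟨chm B x [q', p'], ⟨isGal_chm hBP hg, ?_⟩, ?_⟩
    · rw [chm_last, chm_last]
      simp [e]
    · rintro l'' ⟨h2, h3⟩
      obtain ⟨k'', hk'', rfl⟩ := exists_chm hBP h2
      rw [chm_last, chm_last, QuotientGroup.eq] at h3
      match k'', hk'' with
      | [], hk => exact hk.elim
      | [_], hk => exact hk.2.elim
      | _ :: _ :: _ :: _, hk => exact hk.2.2.elim
      | [a, b], hk'' =>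
        obtain ⟨⟨ha, haB⟩, ⟨hb, hbB⟩, -⟩ := hk''
        have h4 : (a * b)⁻¹ * (q' * p') ∈ B := by
          have e' : (x * [a, b].prod)⁻¹ * (x * [p, q].prod) = (a * b)⁻¹ * (q' * p') := by
            rw [← e]; simp only [List.prod_cons, List.prod_nil, mul_one]; group
          rwa [e'] at h3
        have h5 : a⁻¹ * q' ∈ B := by
          refine hinf _ ?_ (mul_mem (inv_mem ha) hq')
          have e' : a⁻¹ * q' = b * ((a * b)⁻¹ * (q' * p')) * p'⁻¹ := by group
          rw [e']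
          exact mul_mem (mul_mem hb (hBP i h4)) (inv_mem hp')
        have h6 : ((x * a : G) : G ⧸ B) = ((x * q' : G) : G ⧸ B) := by
          rw [QuotientGroup.eq]
          have e' : (x * a)⁻¹ * (x * q') = a⁻¹ * q' := by group
          rw [e']; exact h5
        have h7 : ((x * a * b : G) : G ⧸ B) = ((x * q' * p' : G) : G ⧸ B) := by
          rw [QuotientGroup.eq]
          have e' : (x * a * b)⁻¹ * (x * q' * p') = (a * b)⁻¹ * (q' * p') := by group
          rw [e']; exact h4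
        simp only [chm, h6, h7]

/-- `GP` from polygons and products. -/
theorem gp_of (hBP : ∀ i, B ≤ P i) {m : I → I → ℕ} (h : ∀ i j, i ≠ j → Polygon B P i j (m i j) ∨
    (m i j = 2 ∧ (∀ x, x ∈ P i → x ∈ P j → x ∈ B) ∧
      ∀ p ∈ P i, ∀ q ∈ P j, ∃ q' ∈ P j, ∃ p' ∈ P i, p * q = q' * p')) : GP B P m := by
  intro i j hij
  rcases h i j hij with h | ⟨h2, h3, h4⟩
  · exact gpp_of_polygon hBP h
  · have := gpp_two hBP h3 h4
    rw [h2]
    exact this

/-! ### Panels -/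

/-- A panel with three chambers: an element fixing two of them fixes the third. -/
theorem pan_three {i : I} (hBP : B ≤ P i) (h3 : B.relIndex (P i) = 3) {g x : G} (hg : g ∈ B) (hx : x ∈ P i)
    (hxB : x ∉ B) (hgx : x⁻¹ * g * x ∈ B) {y : G} (hy : y ∈ P i) : y⁻¹ * g * y ∈ B := by
  classical
  by_contra hcon
  have hyB : y ∉ B := fun h => hcon (mul_mem (mul_mem (inv_mem h) hg) h)
  have hxy : x⁻¹ * y ∉ B := by
    intro h
    apply hcon
    have e : y⁻¹ * g * y = (x⁻¹ * y)⁻¹ * (x⁻¹ * g * x) * (x⁻¹ * y) := by group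
    rw [e]
    exact mul_mem (mul_mem (inv_mem h) hgx) h
  have hgy : g * y ∈ P i := mul_mem (hBP hg) hy
  -- four different cosets
  let q : P i → P i ⧸ B.subgroupOf (P i) := QuotientGroup.mk
  have hne : ∀ a b : P i, (a : G)⁻¹ * b ∉ B → q a ≠ q b := by
    intro a b h he
    apply h
    have := QuotientGroup.eq.1 he
    rwa [Subgroup.mem_subgroupOf] at this
  have hc : Nat.card (P i ⧸ B.subgroupOf (P i)) = 3 := h3
  haveI : Finite (P i ⧸ B.subgroupOf (P i)) := Nat.finite_of_card_ne_zero (by rw [hc]; norm_num)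
  haveI := Fintype.ofFinite (P i ⧸ B.subgroupOf (P i))
  let v : Fin 4 → P i ⧸ B.subgroupOf (P i) := ![q 1, q ⟨x, hx⟩, q ⟨y, hy⟩, q ⟨g * y, hgy⟩]
  have h01 : q 1 ≠ q ⟨x, hx⟩ := hne _ _ (by simpa using hxB)
  have h02 : q 1 ≠ q ⟨y, hy⟩ := hne _ _ (by simpa using hyB)
  have h03 : q 1 ≠ q ⟨g * y, hgy⟩ := hne _ _ (by
    intro h
    apply hyB
    have h' : g * y ∈ B := by simpa using h
    have e : y = g⁻¹ * (g * y) := by group
    rw [e]; exact mul_mem (inv_mem hg) h')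
  have h12 : q ⟨x, hx⟩ ≠ q ⟨y, hy⟩ := hne _ _ hxy
  have h13 : q ⟨x, hx⟩ ≠ q ⟨g * y, hgy⟩ := hne _ _ (by
    intro h
    apply hxy
    have h' : x⁻¹ * (g * y) ∈ B := h
    have e : x⁻¹ * y = (x⁻¹ * g * x)⁻¹ * (x⁻¹ * (g * y)) := by group
    rw [e]; exact mul_mem (inv_mem hgx) h')
  have h23 : q ⟨y, hy⟩ ≠ q ⟨g * y, hgy⟩ := hne _ _ (by
    intro h
    apply hcon
    have h' : y⁻¹ * (g * y) ∈ B := h
    rwa [← mul_assoc] at h')
  have hinj : Function.Injective v := by
    intro a b hab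
    fin_cases a <;> fin_cases b <;> first
      | rfl
      | exact absurd hab h01
      | exact absurd hab h02
      | exact absurd hab h03
      | exact absurd hab h12
      | exact absurd hab h13
      | exact absurd hab h23
      | exact absurd hab.symm h01
      | exact absurd hab.symm h02
      | exact absurd hab.symm h03
      | exact absurd hab.symm h12
      | exact absurd hab.symm h13
      | exact absurd hab.symm h23
  have := Fintype.card_le_of_injective v hinj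
  rw [Fintype.card_fin, ← Nat.card_eq_fintype_card, hc] at this
  omega

/-- A panel on which `U` acts with a normal kernel `K` of index `q`: an element of `U` fixing two chambers fixes all. -/
theorem pan_index {i : I} {U K : Subgroup G} {q : ℕ} (hUB : U ≤ B) (hBP : B ≤ P i) (hKU : K ≤ U)
    (hK : ∀ k ∈ K, ∀ y ∈ P i, y⁻¹ * k * y ∈ B) (hq : K.relIndex U = q) (hq0 : q ≠ 0)
    (hcard : B.relIndex (P i) = q + 1)
    (htr : ∀ x ∈ P i, x ∉ B → ∀ y ∈ P i, y ∉ B → ∃ u ∈ U, (u * x)⁻¹ * y ∈ B)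
    {g x : G} (hg : g ∈ U) (hx : x ∈ P i) (hxB : x ∉ B) (hgx : x⁻¹ * g * x ∈ B) :
    g ∈ K := by
  classical
  -- the stabiliser of `x B` in `U`
  let T : Subgroup G := U ⊓ B.map (MulAut.conj x).toMonoidHom
  have hmemT : ∀ z, z ∈ T ↔ z ∈ U ∧ x⁻¹ * z * x ∈ B := by
    intro z
    show z ∈ U ∧ z ∈ B.map (MulAut.conj x).toMonoidHom ↔ _
    rw [Subgroup.mem_map]
    constructor
    · rintro ⟨h1, b, hb, rfl⟩
      refine ⟨h1, ?_⟩
      simpa [MulAut.conj_apply, mul_assoc] using hb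
    · rintro ⟨h1, h2⟩
      refine ⟨h1, _, h2, ?_⟩
      simp [MulAut.conj_apply, mul_assoc]
  have hKT : K ≤ T := fun k hk => (hmemT k).2 ⟨hKU hk, hK k hk x hx⟩
  have hTU : T ≤ U := inf_le_left
  -- the index of `T` in `U`
  haveI hfin : Finite (P i ⧸ B.subgroupOf (P i)) := Nat.finite_of_card_ne_zero (by
    have : Nat.card (P i ⧸ B.subgroupOf (P i)) = q + 1 := hcard
    rw [this]; omega)
  have hTq : T.relIndex U = q := by
    have h1 : Nat.card {c : P i ⧸ B.subgroupOf (P i) // c ≠ QuotientGroup.mk 1} = q := by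
      haveI := Fintype.ofFinite (P i ⧸ B.subgroupOf (P i))
      rw [Nat.card_eq_fintype_card, Fintype.card_subtype_compl, Fintype.card_subtype_eq,
        ← Nat.card_eq_fintype_card]
      have : Nat.card (P i ⧸ B.subgroupOf (P i)) = q + 1 := hcard
      rw [this]; omega
    rw [← h1]
    refine Nat.card_congr (Equiv.ofBijective (fun c : U ⧸ T.subgroupOf U =>
      Quotient.liftOn' c (fun u => (⟨QuotientGroup.mk ⟨(u : G) * x, mul_mem (hBP (hUB u.2)) hx⟩, ?_⟩ :
        {c : P i ⧸ B.subgroupOf (P i) // c ≠ QuotientGroup.mk 1})) ?_) ⟨?_, ?_⟩)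
    · intro h
      rw [eq_comm, QuotientGroup.eq, Subgroup.mem_subgroupOf] at h
      apply hxB
      have h' : (u : G) * x ∈ B := by simpa using h
      have e : x = (u : G)⁻¹ * (u * x) := by group
      rw [e]; exact mul_mem (inv_mem (hUB u.2)) h'
    · intro a b hab
      rw [QuotientGroup.leftRel_apply, Subgroup.mem_subgroupOf] at hab
      apply Subtype.ext
      show (QuotientGroup.mk _ : P i ⧸ B.subgroupOf (P i)) = QuotientGroup.mk _
      rw [QuotientGroup.eq, Subgroup.mem_subgroupOf]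
      have h := ((hmemT _).1 hab).2
      have e : x⁻¹ * ((a⁻¹ * b : U) : G) * x = ((a : G) * x)⁻¹ * ((b : G) * x) := by
        rw [Subgroup.coe_mul, Subgroup.coe_inv]; group
      rw [e] at h
      exact h
    · intro a b hab
      induction a using QuotientGroup.induction_on with
      | _ a =>
      induction b using QuotientGroup.induction_on with
      | _ b =>
      have h : (QuotientGroup.mk (⟨(a : G) * x, _⟩ : P i) : P i ⧸ B.subgroupOf (P i)) =
        QuotientGroup.mk ⟨(b : G) * x, _⟩ := congrArg Subtype.val hab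
      rw [QuotientGroup.eq, Subgroup.mem_subgroupOf] at h ⊢
      rw [hmemT]
      refine ⟨(a⁻¹ * b).2, ?_⟩
      have e : x⁻¹ * ((a⁻¹ * b : U) : G) * x = ((a : G) * x)⁻¹ * ((b : G) * x) := by
        rw [Subgroup.coe_mul, Subgroup.coe_inv]; group
      rw [e]
      exact h
    · rintro ⟨c, hc⟩
      induction c using QuotientGroup.induction_on with
      | _ y =>
      have hyB : (y : G) ∉ B := by
        intro h
        apply hc
        rw [eq_comm, QuotientGroup.eq, Subgroup.mem_subgroupOf]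
        simpa using h
      obtain ⟨u, hu, huy⟩ := htr x hx hxB y y.2 hyB
      refine ⟨QuotientGroup.mk ⟨u, hu⟩, Subtype.ext ?_⟩
      show (QuotientGroup.mk _ : P i ⧸ B.subgroupOf (P i)) = QuotientGroup.mk _
      rw [QuotientGroup.eq, Subgroup.mem_subgroupOf]
      exact huy
  have h2 := Subgroup.relIndex_mul_relIndex K T U hKT hTU
  rw [hTq, hq] at h2
  have h3 : K.relIndex T = 1 := by
    have : K.relIndex T * q = 1 * q := by rw [h2, one_mul]
    exact Nat.eq_of_mul_eq_mul_right (Nat.pos_of_ne_zero hq0) this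
  exact Subgroup.relIndex_eq_one.1 h3 ((hmemT g).2 ⟨hg, hgx⟩)

/-- If `U` is a normal subgroup of `B` of index prime to `p`, it contains the `p`-elements of `B`. -/
theorem mem_of_coprime {U : Subgroup G} {p : ℕ} (hUB : U ≤ B) (hn : ∀ b ∈ B, ∀ u ∈ U, b * u * b⁻¹ ∈ U)
    (hco : (U.relIndex B).Coprime p) {g : G} (hg : g ∈ B) {k : ℕ} (hgp : g ^ p ^ k = 1) : g ∈ U := by
  haveI : (U.subgroupOf B).Normal := ⟨fun u hu b => by
    rw [Subgroup.mem_subgroupOf] at hu ⊢
    exact hn b b.2 u hu⟩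
  have h1 : (QuotientGroup.mk (⟨g, hg⟩ : B) : B ⧸ U.subgroupOf B) = 1 := by
    have h2 : (QuotientGroup.mk (⟨g, hg⟩ : B) : B ⧸ U.subgroupOf B) ^ p ^ k = 1 := by
      rw [← QuotientGroup.mk_pow]
      have : (⟨g, hg⟩ : B) ^ p ^ k = 1 := Subtype.ext hgp
      rw [this]; rfl
    have h3 : orderOf (QuotientGroup.mk (⟨g, hg⟩ : B) : B ⧸ U.subgroupOf B) ∣ p ^ k := orderOf_dvd_of_pow_eq_one h2
    have h4 : orderOf (QuotientGroup.mk (⟨g, hg⟩ : B) : B ⧸ U.subgroupOf B) ∣ U.relIndex B := orderOf_dvd_natCard _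
    have h5 : (U.relIndex B).Coprime (p ^ k) := hco.pow_right k
    have h6 := Nat.dvd_gcd h4 h3
    rw [h5.gcd_eq_one] at h6
    exact orderOf_eq_one_iff.1 (Nat.dvd_one.1 h6)
  rw [QuotientGroup.eq_one_iff, Subgroup.mem_subgroupOf] at h1
  exact h1

/-- the closure condition -/
theorem clo_of_coprime {U : Subgroup G} {p : ℕ} (hUB : U ≤ B) (hn : ∀ b ∈ B, ∀ u ∈ U, b * u * b⁻¹ ∈ U)
    (hco : (U.relIndex B).Coprime p) (hp : IsPGroup p U) {g x : G} (hg : g ∈ U) (h : x⁻¹ * g * x ∈ B) :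
    x⁻¹ * g * x ∈ U := by
  obtain ⟨k, hk⟩ := hp ⟨g, hg⟩
  have hk' : g ^ p ^ k = 1 := congrArg Subtype.val hk
  refine mem_of_coprime hUB hn hco h (k := k) ?_
  have e : x⁻¹ * g * x = x⁻¹ * g * (x⁻¹)⁻¹ := by rw [inv_inv]
  rw [e, conj_pow, hk', mul_one, mul_inv_cancel]

end Cfsg.Agent.ParSys.RankTwo

end

section


/-!
# Residues of rank two which are given by a geometry

`Model B P i j A φ Γ` : the chambers `x B`, `x ∈ Γ`, of the residue `{i, j}` are the chambers `φ x` of a chamber system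
`A` (any type).  `Model.gpp` : then `GPp B P i j m` is a property of `A` at `φ 1`.

`Flags` : `A` = the flags of an incidence geometry; `Flags.gpp_three` (two points are on exactly one line) and
`Flags.gpp_three'` (dual), `Flags.gpp_four` (generalised quadrangle).
-/

set_option autoImplicit false

namespace Cfsg.Agent.ParSys.FlagGP

open Cfsg.Agent.ParSys Cfsg.Agent.ParSys.Free Cfsg.Agent.ParSys.RankTwo

variable {G : Type*} [Group G] {I : Type*} {B : Subgroup G} {P : I → Subgroup G} {T : Type*}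

theorem mem_alt {a b i : I} {k : ℕ} (h : i ∈ alt a b k) : i = a ∨ i = b := by
  induction k generalizing a b with
  | zero => simp at h
  | succ k ih =>
    rw [alt_cons, List.mem_cons] at h
    rcases h with h | h
    · exact Or.inl h
    · exact (ih h).symm

/-- the chambers of the residue `{i, j}` are given by the chamber system `A` on `T` -/
structure Model (B : Subgroup G) (P : I → Subgroup G) (i j : I) (A : I → T → T → Prop) (φ : G → T)
    (Γ : Subgroup G) : Prop where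
  li : P i ≤ Γ
  lj : P j ≤ Γ
  inj : ∀ x ∈ Γ, ∀ y ∈ Γ, φ x = φ y → x⁻¹ * y ∈ B
  eqB : ∀ x ∈ Γ, ∀ b ∈ B, φ (x * b) = φ x
  adj : ∀ k, k = i ∨ k = j → ∀ x ∈ Γ, ∀ p ∈ P k, p ∉ B → A k (φ x) (φ (x * p))
  sur : ∀ k, k = i ∨ k = j → ∀ x ∈ Γ, ∀ d, A k (φ x) d → ∃ p ∈ P k, p ∉ B ∧ φ (x * p) = d

/-- the chambers `φ (x y₁ .. yₙ)` -/
def phm (φ : G → T) : G → List G → List T
  | _, [] => []
  | x, y :: k => φ (x * y) :: phm φ (x * y) k

theorem phm_last (φ : G → T) (x : G) (k : List G) : (phm φ x k).getLastD (φ x) = φ (x * k.prod) := by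
  induction k generalizing x with
  | nil => simp [phm]
  | cons y k ih => rw [phm, List.getLastD_cons, ih, List.prod_cons, mul_assoc]

namespace Model

variable {i j : I} {A : I → T → T → Prop} {φ : G → T} {Γ : Subgroup G} (h : Model B P i j A φ Γ)

include h

theorem symm : Model B P j i A φ Γ where
  li := h.lj
  lj := h.li
  inj := h.inj
  eqB := h.eqB
  adj k hk := h.adj k hk.symm
  sur k hk := h.sur k hk.symm

theorem leΓ {k : I} (hk : k = i ∨ k = j) : P k ≤ Γ := by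
  rcases hk with rfl | rfl
  · exact h.li
  · exact h.lj

theorem prod_mem {f : List I} (hf : ∀ a ∈ f, a = i ∨ a = j) {k : List G} (hk : GalE B P f k) : k.prod ∈ Γ := by
  induction f generalizing k with
  | nil =>
    cases k with
    | nil => simp [one_mem]
    | cons y k => exact hk.elim
  | cons a f ih =>
    cases k with
    | nil => exact hk.elim
    | cons y k =>
      rw [List.prod_cons]
      exact mul_mem (h.leΓ (hf a (by simp)) hk.1.1) (ih (fun b hb => hf b (by simp [hb])) hk.2)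

theorem isGal_phm {f : List I} (hf : ∀ a ∈ f, a = i ∨ a = j) {x : G} (hx : x ∈ Γ) {k : List G}
    (hk : GalE B P f k) : IsGal A f (φ x) (phm φ x k) := by
  induction f generalizing x k with
  | nil =>
    cases k with
    | nil => exact isGal_nil_iff.2 rfl
    | cons y k => exact hk.elim
  | cons a f ih =>
    cases k with
    | nil => exact hk.elim
    | cons y k =>
      rw [phm, isGal_cons_cons]
      exact ⟨h.adj a (hf a (by simp)) x hx y hk.1.1 hk.1.2,
        ih (fun b hb => hf b (by simp [hb])) (mul_mem hx (h.leΓ (hf a (by simp)) hk.1.1)) hk.2⟩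

theorem exists_phm {f : List I} (hf : ∀ a ∈ f, a = i ∨ a = j) {x : G} (hx : x ∈ Γ) {l : List T}
    (hl : IsGal A f (φ x) l) : ∃ k, GalE B P f k ∧ l = phm φ x k := by
  induction f generalizing x l with
  | nil => exact ⟨[], trivial, isGal_nil_iff.1 hl⟩
  | cons a f ih =>
    obtain ⟨d, l', rfl, h1, h2⟩ := isGal_cons_iff.1 hl
    obtain ⟨p, hp, hpB, rfl⟩ := h.sur a (hf a (by simp)) x hx d h1
    obtain ⟨k, hk, rfl⟩ := ih (fun b hb => hf b (by simp [hb])) (mul_mem hx (h.leΓ (hf a (by simp)) hp)) h2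
    exact ⟨p :: k, ⟨⟨hp, hpB⟩, hk⟩, rfl⟩

theorem chm_eq {f : List I} (hf : ∀ a ∈ f, a = i ∨ a = j) {x y z : G} (hx : x ∈ Γ) (hy : y ∈ Γ)
    {k k' : List G} (hk : GalE B P f k) (hk' : GalE B P f k') (he : phm φ x k = phm φ y k') :
    chm B (z * x) k = chm B (z * y) k' := by
  induction f generalizing x y k k' with
  | nil =>
    cases k with
    | nil =>
      cases k' with
      | nil => rfl
      | cons a k' => exact hk'.elim
    | cons a k => exact hk.elim
  | cons a f ih =>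
    cases k with
    | nil => exact hk.elim
    | cons u k =>
      cases k' with
      | nil => exact hk'.elim
      | cons v k' =>
        rw [phm, phm, List.cons.injEq] at he
        have hxu := mul_mem hx (h.leΓ (hf a (by simp)) hk.1.1)
        have hyv := mul_mem hy (h.leΓ (hf a (by simp)) hk'.1.1)
        rw [chm, chm, List.cons.injEq, mul_assoc, mul_assoc]
        refine ⟨?_, ih (fun b hb => hf b (by simp [hb])) hxu hyv hk.2 hk'.2 he.2⟩
        rw [QuotientGroup.eq]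
        have e : (z * (x * u))⁻¹ * (z * (y * v)) = (x * u)⁻¹ * (y * v) := by group
        rw [e]
        exact h.inj _ hxu _ hyv he.1

/-- **the generalised polygon property of a residue which is given by a model** -/
theorem gpp (hBP : ∀ i, B ≤ P i) {m : ℕ}
    (hgp : ∀ l, IsGal A (alt i j m) (φ 1) l →
      ∃! l', IsGal A (alt j i m) (φ 1) l' ∧ l'.getLastD (φ 1) = l.getLastD (φ 1)) : GPp B P i j m := by
  intro c l hl
  have hf : ∀ a ∈ alt i j m, a = i ∨ a = j := fun a ha => mem_alt ha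
  have hf' : ∀ a ∈ alt j i m, a = i ∨ a = j := fun a ha => (mem_alt ha).symm
  induction c using QuotientGroup.induction_on with
  | _ x =>
  obtain ⟨k, hk, rfl⟩ := exists_chm hBP hl
  obtain ⟨l', ⟨h1, h2⟩, h3⟩ := hgp _ (h.isGal_phm hf (one_mem Γ) hk)
  obtain ⟨k', hk', rfl⟩ := h.exists_phm hf' (one_mem Γ) h1
  rw [phm_last, phm_last, one_mul, one_mul] at h2
  have hkk := h.inj _ (h.prod_mem hf' hk') _ (h.prod_mem hf hk) h2
  refine ⟨chm B x k', ⟨isGal_chm hBP hk', ?_⟩, ?_⟩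
  · rw [chm_last, chm_last, QuotientGroup.eq]
    have e : (x * k'.prod)⁻¹ * (x * k.prod) = k'.prod⁻¹ * k.prod := by group
    rw [e]; exact hkk
  · rintro l'' ⟨h4, h5⟩
    obtain ⟨k'', hk'', rfl⟩ := exists_chm hBP h4
    rw [chm_last, chm_last, QuotientGroup.eq] at h5
    have e : (x * k''.prod)⁻¹ * (x * k.prod) = k''.prod⁻¹ * k.prod := by group
    rw [e] at h5
    have h6 : φ k''.prod = φ k.prod := by
      rw [← h.eqB _ (h.prod_mem hf' hk'') _ h5, mul_inv_cancel_left]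
    have h7 := h3 (phm φ 1 k'') ⟨h.isGal_phm hf' (one_mem Γ) hk'', by
      rw [phm_last, phm_last, one_mul, one_mul]; exact h6⟩
    have h8 := h.chm_eq (z := x) hf' (one_mem Γ) (one_mem Γ) hk'' hk' h7
    rwa [mul_one] at h8

end Model

/-! ### Flags of an incidence geometry -/

section geometry

variable {X Y : Type*}

/-- the flags `(p, l)`; `i` moves the point, `j` moves the line -/
def FA (i j : I) (pt : Set X) (ln : Set Y) (inc : X → Y → Prop) (k : I) (c d : X × Y) : Prop :=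
  (c.1 ∈ pt ∧ c.2 ∈ ln ∧ inc c.1 c.2) ∧ (d.1 ∈ pt ∧ d.2 ∈ ln ∧ inc d.1 d.2) ∧
    ((k = i ∧ c.2 = d.2 ∧ c.1 ≠ d.1) ∨ (k = j ∧ c.1 = d.1 ∧ c.2 ≠ d.2))

variable {i j : I} {pt : Set X} {ln : Set Y} {inc : X → Y → Prop}

theorem fa_i (hij : i ≠ j) {p p' : X} {l l' : Y} : FA i j pt ln inc i (p, l) (p', l') ↔
    (p ∈ pt ∧ l ∈ ln ∧ inc p l) ∧ p' ∈ pt ∧ inc p' l ∧ l' = l ∧ p ≠ p' := by
  constructor
  · rintro ⟨h1, ⟨h2, h3, h4⟩, h5⟩
    rcases h5 with ⟨-, h6, h7⟩ | ⟨h6, -⟩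
    · have h6 : l = l' := h6
      subst h6
      exact ⟨h1, h2, h4, rfl, h7⟩
    · exact (hij h6).elim
  · rintro ⟨⟨h1, h2, h3⟩, h4, h5, rfl, h6⟩
    exact ⟨⟨h1, h2, h3⟩, ⟨h4, h2, h5⟩, Or.inl ⟨rfl, rfl, h6⟩⟩

theorem fa_j (hij : i ≠ j) {p p' : X} {l l' : Y} : FA i j pt ln inc j (p, l) (p', l') ↔
    (p ∈ pt ∧ l ∈ ln ∧ inc p l) ∧ l' ∈ ln ∧ inc p l' ∧ p' = p ∧ l ≠ l' := by
  constructor
  · rintro ⟨h1, ⟨h2, h3, h4⟩, h5⟩
    rcases h5 with ⟨h6, -⟩ | ⟨-, h6, h7⟩
    · exact (hij h6.symm).elim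
    · have h6 : p = p' := h6
      subst h6
      exact ⟨h1, h3, h4, rfl, h7⟩
  · rintro ⟨⟨h1, h2, h3⟩, h4, h5, rfl, h6⟩
    exact ⟨⟨h1, h2, h3⟩, ⟨h1, h4, h5⟩, Or.inr ⟨rfl, rfl, h6⟩⟩

theorem isGal_three {A : I → T → T → Prop} {a b c : I} {x : T} {l : List T} :
    IsGal A [a, b, c] x l ↔ ∃ y z w, l = [y, z, w] ∧ A a x y ∧ A b y z ∧ A c z w := by
  constructor
  · intro h
    obtain ⟨y, l1, rfl, h1, h2⟩ := isGal_cons_iff.1 h
    obtain ⟨z, l2, rfl, h3, h4⟩ := isGal_cons_iff.1 h2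
    obtain ⟨w, l3, rfl, h5, h6⟩ := isGal_cons_iff.1 h4
    rw [isGal_nil_iff] at h6
    subst h6
    exact ⟨y, z, w, rfl, h1, h3, h5⟩
  · rintro ⟨y, z, w, rfl, h1, h2, h3⟩
    exact ⟨h1, h2, h3, trivial⟩

/-- two distinct points are on exactly one line: galleries `i j i` -/
theorem gal_three (hij : i ≠ j) (hpp : ∀ p ∈ pt, ∀ p' ∈ pt, p ≠ p' → ∃ l ∈ ln, inc p l ∧ inc p' l)
    (hpu : ∀ p ∈ pt, ∀ p' ∈ pt, p ≠ p' → ∀ l ∈ ln, ∀ l' ∈ ln, inc p l → inc p' l → inc p l' → inc p' l' → l = l')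
    (c : X × Y) (l : List (X × Y)) (hl : IsGal (FA i j pt ln inc) (alt i j 3) c l) :
    ∃! l', IsGal (FA i j pt ln inc) (alt j i 3) c l' ∧ l'.getLastD c = l.getLastD c := by
  have e1 : alt i j 3 = [i, j, i] := rfl
  have e2 : alt j i 3 = [j, i, j] := rfl
  rw [e1] at hl
  rw [e2]
  obtain ⟨⟨p1, l1⟩, ⟨p2, l2⟩, ⟨p3, l3⟩, rfl, h1, h2, h3⟩ := isGal_three.1 hl
  obtain ⟨p, m⟩ := c
  rw [fa_i hij] at h1 h3
  rw [fa_j hij] at h2
  obtain ⟨⟨hp, hm, hpm⟩, hp1, hp1m, rfl, hpp1⟩ := h1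
  obtain ⟨-, hl2, hp1l2, rfl, hll2⟩ := h2
  obtain ⟨-, hp3, hp3l2, rfl, hp2p3⟩ := h3
  -- now: `p, p2 ∈ l1`, `p2, p3 ∈ l3`
  have hne : p ≠ p3 := by
    rintro rfl
    exact hll2 (hpu p hp p2 hp1 hpp1 l1 hm l3 hl2 hpm hp1m hp3l2 hp1l2)
  obtain ⟨n, hn, hpn, hp3n⟩ := hpp p hp p3 hp3 hne
  have hnl1 : l1 ≠ n := by
    rintro rfl
    exact hll2 (hpu p2 hp1 p3 hp3 hp2p3 l1 hm l3 hl2 hp1m hp3n hp1l2 hp3l2)
  have hnl3 : n ≠ l3 := by
    rintro rfl
    exact hll2 (hpu p hp p2 hp1 hpp1 l1 hm n hl2 hpm hp1m hpn hp1l2)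
  refine ⟨[(p, n), (p3, n), (p3, l3)], ⟨isGal_three.2 ⟨_, _, _, rfl, ?_, ?_, ?_⟩, rfl⟩, ?_⟩
  · exact (fa_j hij).2 ⟨⟨hp, hm, hpm⟩, hn, hpn, rfl, hnl1⟩
  · exact (fa_i hij).2 ⟨⟨hp, hn, hpn⟩, hp3, hp3n, rfl, hne⟩
  · exact (fa_j hij).2 ⟨⟨hp3, hn, hp3n⟩, hl2, hp3l2, rfl, hnl3⟩
  · rintro l' ⟨h4, h5⟩
    obtain ⟨⟨q1, m1⟩, ⟨q2, m2⟩, ⟨q3, m3⟩, rfl, h6, h7, h8⟩ := isGal_three.1 h4
    rw [fa_j hij] at h6 h8
    rw [fa_i hij] at h7
    obtain ⟨-, hm1, hpm1, rfl, hne1⟩ := h6
    obtain ⟨-, hq2, hq2m1, rfl, hne2⟩ := h7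
    obtain ⟨-, hm3, hq2m3, rfl, hne3⟩ := h8
    have h9 : (q3, m3) = (p3, l3) := h5
    rw [Prod.mk.injEq] at h9
    obtain ⟨rfl, rfl⟩ := h9
    have h10 := hpu q1 hp q3 hp3 hne m2 hm1 n hn hpm1 hq2m1 hpn hp3n
    subst h10
    rfl

theorem getLastD_swap {X Y : Type*} (c : X × Y) (l : List (X × Y)) :
    (l.map Prod.swap).getLastD c.swap = (l.getLastD c).swap := by
  induction l generalizing c with
  | nil => rfl
  | cons d l ih => rw [List.map_cons, List.getLastD_cons, List.getLastD_cons, ih]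

theorem isGal_swap {c : X × Y} {f : List I} {l : List (X × Y)} (h : IsGal (FA i j pt ln inc) f c l) :
    IsGal (FA j i ln pt (fun y x => inc x y)) f c.swap (l.map Prod.swap) := by
  induction f generalizing c l with
  | nil => rw [isGal_nil_iff.1 h]; simp
  | cons a f ih =>
    obtain ⟨d, l', rfl, h1, h2⟩ := isGal_cons_iff.1 h
    refine ⟨?_, ih h2⟩
    obtain ⟨⟨h3, h4, h5⟩, ⟨h6, h7, h8⟩, h9⟩ := h1
    exact ⟨⟨h4, h3, h5⟩, ⟨h7, h6, h8⟩, h9.symm⟩

/-- two distinct lines meet in exactly one point: galleries `j i j` -/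
theorem gal_three' (hij : i ≠ j) (hpp : ∀ l ∈ ln, ∀ l' ∈ ln, l ≠ l' → ∃ p ∈ pt, inc p l ∧ inc p l')
    (hpu : ∀ p ∈ pt, ∀ p' ∈ pt, p ≠ p' → ∀ l ∈ ln, ∀ l' ∈ ln, inc p l → inc p' l → inc p l' → inc p' l' → l = l')
    (c : X × Y) (l : List (X × Y)) (hl : IsGal (FA i j pt ln inc) (alt j i 3) c l) :
    ∃! l', IsGal (FA i j pt ln inc) (alt i j 3) c l' ∧ l'.getLastD c = l.getLastD c := by
  obtain ⟨l', ⟨h1, h2⟩, h3⟩ := gal_three (i := j) (j := i) (pt := ln) (ln := pt) (inc := fun y x => inc x y) hij.symm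
    hpp (fun y hy y' hy' hne x hx x' hx' h1 h2 h3 h4 => by
      by_contra hcon
      exact hne (hpu x hx x' hx' hcon y hy y' hy' h1 h3 h2 h4)) c.swap _ (isGal_swap hl)
  have key : ∀ l : List (X × Y), (l.map Prod.swap).getLastD c.swap = (l.getLastD c).swap := fun l =>
    getLastD_swap c l
  have key2 : ∀ l : List (Y × X), (l.map Prod.swap).getLastD c = (l.getLastD c.swap).swap := fun l => by
    have := getLastD_swap c.swap l
    rwa [Prod.swap_swap] at this
  have hinv : ∀ l : List (Y × X), (l.map Prod.swap).map Prod.swap = l := fun l => by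
    rw [List.map_map]; simp
  refine ⟨l'.map Prod.swap, ⟨?_, ?_⟩, ?_⟩
  · have := isGal_swap h1
    rwa [Prod.swap_swap] at this
  · rw [key2, h2, key, Prod.swap_swap]
  · rintro l'' ⟨h4, h5⟩
    have h6 := h3 (l''.map Prod.swap) ⟨isGal_swap h4, by rw [key, key, h5]⟩
    rw [← h6, List.map_map]; simp

end geometry

/-! ### Groups acting on a geometry -/

section flags

variable {X Y : Type*} [MulAction G X] [MulAction G Y]

/-- `⟨Pi, Pj⟩` acts flag-transitively on the geometry `(pt, ln, inc)`, and `B` is the stabiliser of the flag `(p, l)` -/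
structure Flags (B Pi Pj : Subgroup G) (pt : Set X) (ln : Set Y) (inc : X → Y → Prop) (p : X) (l : Y) : Prop where
  hp : p ∈ pt
  hl : l ∈ ln
  hpl : inc p l
  Bi : B ≤ Pi
  Bj : B ≤ Pj
  pts : ∀ g, g ∈ Pi ∨ g ∈ Pj → ∀ x ∈ pt, g • x ∈ pt
  lns : ∀ g, g ∈ Pi ∨ g ∈ Pj → ∀ y ∈ ln, g • y ∈ ln
  inc' : ∀ g, g ∈ Pi ∨ g ∈ Pj → ∀ x ∈ pt, ∀ y ∈ ln, inc x y → inc (g • x) (g • y)
  fixl : ∀ g ∈ Pi, g • l = l
  fixp : ∀ g ∈ Pj, g • p = p
  trp : ∀ x ∈ pt, inc x l → ∃ g ∈ Pi, g • p = x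
  trl : ∀ y ∈ ln, inc p y → ∃ g ∈ Pj, g • l = y
  stab : ∀ g ∈ Pi ⊔ Pj, g • p = p → g • l = l → g ∈ B

namespace Flags

variable {i j : I} {pt : Set X} {ln : Set Y} {inc : X → Y → Prop} {p : X} {l : Y}
  (F : Flags B (P i) (P j) pt ln inc p l)

include F

theorem mem_all : ∀ g ∈ P i ⊔ P j, (∀ x ∈ pt, g • x ∈ pt) ∧ (∀ y ∈ ln, g • y ∈ ln) ∧
    ∀ x ∈ pt, ∀ y ∈ ln, inc x y → inc (g • x) (g • y) := by
  intro g hg
  rw [Subgroup.sup_eq_closure] at hg
  induction hg using Subgroup.closure_induction_left with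
  | one => simp
  | mul_left a ha b hb ih =>
    refine ⟨fun x hx => ?_, fun y hy => ?_, fun x hx y hy h => ?_⟩
    · rw [mul_smul]; exact F.pts a ha _ (ih.1 x hx)
    · rw [mul_smul]; exact F.lns a ha _ (ih.2.1 y hy)
    · rw [mul_smul, mul_smul]; exact F.inc' a ha _ (ih.1 x hx) _ (ih.2.1 y hy) (ih.2.2 x hx y hy h)
  | inv_mul_cancel a ha b hb ih =>
    have ha' : a⁻¹ ∈ P i ∨ a⁻¹ ∈ P j := ha.imp (fun h => inv_mem h) (fun h => inv_mem h)
    refine ⟨fun x hx => ?_, fun y hy => ?_, fun x hx y hy h => ?_⟩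
    · rw [mul_smul]; exact F.pts _ ha' _ (ih.1 x hx)
    · rw [mul_smul]; exact F.lns _ ha' _ (ih.2.1 y hy)
    · rw [mul_smul, mul_smul]; exact F.inc' _ ha' _ (ih.1 x hx) _ (ih.2.1 y hy) (ih.2.2 x hx y hy h)

theorem inc_iff {g : G} (hg : g ∈ P i ⊔ P j) {x : X} (hx : x ∈ pt) {y : Y} (hy : y ∈ ln) :
    inc (g • x) (g • y) ↔ inc x y := by
  refine ⟨fun h => ?_, (F.mem_all g hg).2.2 x hx y hy⟩
  have h1 := (F.mem_all g⁻¹ (inv_mem hg)).2.2 _ ((F.mem_all g hg).1 x hx) _ ((F.mem_all g hg).2.1 y hy) h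
  rwa [inv_smul_smul, inv_smul_smul] at h1

/-- the model of the residue -/
theorem model (hij : i ≠ j) :
    Model B P i j (FA i j pt ln inc) (fun g : G => ((g • p, g • l) : X × Y)) (P i ⊔ P j) where
  li := le_sup_left
  lj := le_sup_right
  inj x hx y hy h := by
    rw [Prod.mk.injEq] at h
    apply F.stab _ (mul_mem (inv_mem hx) hy)
    · rw [mul_smul, ← h.1, inv_smul_smul]
    · rw [mul_smul, ← h.2, inv_smul_smul]
  eqB x _ b hb := by
    rw [mul_smul, mul_smul, F.fixp b (F.Bj hb), F.fixl b (F.Bi hb)]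
  adj k hk x hx q hq hqB := by
    have hxq : x * q ∈ P i ⊔ P j := by
      rcases hk with rfl | rfl
      · exact mul_mem hx (Subgroup.mem_sup_left hq)
      · exact mul_mem hx (Subgroup.mem_sup_right hq)
    refine ⟨⟨(F.mem_all x hx).1 p F.hp, (F.mem_all x hx).2.1 l F.hl, (F.mem_all x hx).2.2 p F.hp l F.hl F.hpl⟩,
      ⟨(F.mem_all _ hxq).1 p F.hp, (F.mem_all _ hxq).2.1 l F.hl, (F.mem_all _ hxq).2.2 p F.hp l F.hl F.hpl⟩, ?_⟩
    rcases hk with rfl | rfl
    · refine Or.inl ⟨rfl, ?_, ?_⟩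
      · show x • l = (x * q) • l
        rw [mul_smul, F.fixl q hq]
      · intro h
        have h : x • p = (x * q) • p := h
        rw [mul_smul, smul_left_cancel_iff] at h
        exact hqB (F.stab q (Subgroup.mem_sup_left hq) h.symm (F.fixl q hq))
    · refine Or.inr ⟨rfl, ?_, ?_⟩
      · show x • p = (x * q) • p
        rw [mul_smul, F.fixp q hq]
      · intro h
        have h : x • l = (x * q) • l := h
        rw [mul_smul, smul_left_cancel_iff] at h
        exact hqB (F.stab q (Subgroup.mem_sup_right hq) (F.fixp q hq) h.symm)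
  sur k hk x hx d h := by
    obtain ⟨y, m⟩ := d
    rcases hk with rfl | rfl
    · rw [fa_i hij] at h
      obtain ⟨⟨h1, h2, h3⟩, h4, h5, rfl, h6⟩ := h
      have h7 := (F.mem_all x⁻¹ (inv_mem hx)).1 y h4
      have h8 : inc (x⁻¹ • y) l := by
        rw [← F.inc_iff hx h7 F.hl, smul_inv_smul]; exact h5
      obtain ⟨g, hg, h9⟩ := F.trp _ h7 h8
      refine ⟨g, hg, fun hgB => h6 ?_, ?_⟩
      · rw [eq_inv_smul_iff] at h9
        rw [← h9, F.fixp g (F.Bj hgB)]
      · rw [eq_inv_smul_iff] at h9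
        rw [mul_smul, mul_smul, h9, F.fixl g hg]
    · rw [fa_j hij] at h
      obtain ⟨⟨h1, h2, h3⟩, h4, h5, rfl, h6⟩ := h
      have h7 := (F.mem_all x⁻¹ (inv_mem hx)).2.1 m h4
      have h8 : inc p (x⁻¹ • m) := by
        rw [← F.inc_iff hx F.hp h7, smul_inv_smul]; exact h5
      obtain ⟨g, hg, h9⟩ := F.trl _ h7 h8
      refine ⟨g, hg, fun hgB => h6 ?_, ?_⟩
      · rw [eq_inv_smul_iff] at h9
        rw [← h9, F.fixl g (F.Bi hgB)]
      · rw [eq_inv_smul_iff] at h9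
        rw [mul_smul, mul_smul, h9, F.fixp g hg]

/-- **projective plane** -/
theorem gpp_three (hBP : ∀ i, B ≤ P i) (hij : i ≠ j)
    (hpp : ∀ p ∈ pt, ∀ p' ∈ pt, p ≠ p' → ∃ l ∈ ln, inc p l ∧ inc p' l)
    (hpu : ∀ p ∈ pt, ∀ p' ∈ pt, p ≠ p' → ∀ l ∈ ln, ∀ l' ∈ ln, inc p l → inc p' l → inc p l' → inc p' l' → l = l')
    (hll : ∀ l ∈ ln, ∀ l' ∈ ln, l ≠ l' → ∃ p ∈ pt, inc p l ∧ inc p l') : GPp B P i j 3 ∧ GPp B P j i 3 :=
  ⟨(F.model hij).gpp hBP fun l hl => gal_three hij hpp hpu _ l hl,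
    (F.model hij).symm.gpp hBP fun l hl => gal_three' hij hll hpu _ l hl⟩

end Flags

end flags

end Cfsg.Agent.ParSys.FlagGP

end

section


/-!
# Flags of a generalised quadrangle

`FlagFour.gal_four`, `FlagFour.gal_four'` : galleries of length four in the chamber system of the flags of a generalised
quadrangle; `FlagFour.gpp_four` : a group which acts flag-transitively on a generalised quadrangle.
-/

set_option autoImplicit false

namespace Cfsg.Agent.ParSys.FlagFour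

open Cfsg.Agent.ParSys Cfsg.Agent.ParSys.Free Cfsg.Agent.ParSys.RankTwo Cfsg.Agent.ParSys.FlagGP

variable {G : Type*} [Group G] {I : Type*} {B : Subgroup G} {P : I → Subgroup G} {T : Type*}

section geometry

variable {X Y : Type*} {i j : I} {pt : Set X} {ln : Set Y} {inc : X → Y → Prop}

theorem isGal_four {A : I → T → T → Prop} {a b c d : I} {x : T} {l : List T} :
    IsGal A [a, b, c, d] x l ↔ ∃ y z w v, l = [y, z, w, v] ∧ A a x y ∧ A b y z ∧ A c z w ∧ A d w v := by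
  constructor
  · intro h
    obtain ⟨y, l1, rfl, h1, h2⟩ := isGal_cons_iff.1 h
    obtain ⟨z, w, v, rfl, h3, h4, h5⟩ := isGal_three.1 h2
    exact ⟨y, z, w, v, rfl, h1, h3, h4, h5⟩
  · rintro ⟨y, z, w, v, rfl, h1, h2, h3, h4⟩
    exact ⟨h1, h2, h3, h4, trivial⟩

/-- a generalised quadrangle: two distinct points are on at most one line, and for a point `p` off the line `l` there
is exactly one pair `(q, m)`, `p, q ∈ m`, `q ∈ l`: galleries `i j i j` -/
theorem gal_four (hij : i ≠ j)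
    (hpu : ∀ p ∈ pt, ∀ p' ∈ pt, p ≠ p' → ∀ l ∈ ln, ∀ l' ∈ ln, inc p l → inc p' l → inc p l' → inc p' l' → l = l')
    (hq : ∀ p ∈ pt, ∀ l ∈ ln, ¬ inc p l → ∃ q ∈ pt, ∃ m ∈ ln, inc p m ∧ inc q m ∧ inc q l ∧
      ∀ q' ∈ pt, ∀ m' ∈ ln, inc p m' → inc q' m' → inc q' l → q' = q ∧ m' = m)
    (c : X × Y) (l : List (X × Y)) (hl : IsGal (FA i j pt ln inc) (alt i j 4) c l) :
    ∃! l', IsGal (FA i j pt ln inc) (alt j i 4) c l' ∧ l'.getLastD c = l.getLastD c := by
  have e1 : alt i j 4 = [i, j, i, j] := rfl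
  have e2 : alt j i 4 = [j, i, j, i] := rfl
  rw [e1] at hl
  rw [e2]
  obtain ⟨⟨p1, l1⟩, ⟨p2, l2⟩, ⟨p3, l3⟩, ⟨p4, l4⟩, rfl, h1, h2, h3, h4⟩ := isGal_four.1 hl
  obtain ⟨p, m⟩ := c
  rw [fa_i hij] at h1 h3
  rw [fa_j hij] at h2 h4
  obtain ⟨⟨hp, hm, hpm⟩, hp1, hp1m, rfl, hpp1⟩ := h1
  obtain ⟨-, hl2, hp1l2, rfl, hll2⟩ := h2
  obtain ⟨-, hp3, hp3l2, rfl, hp2p3⟩ := h3
  obtain ⟨-, hl4, hp3l4, rfl, hl34⟩ := h4
  -- now: `p, p2 ∈ l1`, `p2, p4 ∈ l3`, `p4 ∈ l4`, `l1 ≠ l3 ≠ l4`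
  have huniq : ∀ x ∈ pt, ∀ y ∈ ln, ¬ inc x y → ∀ q ∈ pt, ∀ n ∈ ln, ∀ q' ∈ pt, ∀ n' ∈ ln, inc x n → inc q n →
      inc q y → inc x n' → inc q' n' → inc q' y → q = q' ∧ n = n' := by
    intro x hx y hy hxy q hq0 n hn q' hq' n' hn' h1 h2 h3 h4 h5 h6
    obtain ⟨q1, -, n1, -, -, -, -, h7⟩ := hq x hx y hy hxy
    obtain ⟨e3, e4⟩ := h7 q hq0 n hn h1 h2 h3
    obtain ⟨e5, e6⟩ := h7 q' hq' n' hn' h4 h5 h6
    exact ⟨e3.trans e5.symm, e4.trans e6.symm⟩
  have hpl3 : ¬ inc p l3 := fun h => hll2 (hpu p hp p2 hp1 hpp1 l1 hm l3 hl2 hpm hp1m h hp1l2)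
  have hp4l1 : ¬ inc p4 l1 := fun h => hll2 (hpu p2 hp1 p4 hp3 hp2p3 l1 hm l3 hl2 hp1m h hp1l2 hp3l2)
  have hpl4 : ¬ inc p l4 := fun h =>
    hp2p3 (huniq p hp l3 hl2 hpl3 p2 hp1 l1 hm p4 hp3 l4 hl4 hpm hp1m hp1l2 h hp3l4 hp3l2).1
  obtain ⟨q, hq1, n, hn, hpn, hqn, hql4, hqu⟩ := hq p hp l4 hl4 hpl4
  have hqp : p ≠ q := by
    rintro rfl
    exact hpl4 hql4
  have hnl4 : n ≠ l4 := by
    rintro rfl
    exact hpl4 hpn
  have hqp4 : q ≠ p4 := by
    rintro rfl
    exact hp2p3 (huniq p hp l3 hl2 hpl3 p2 hp1 l1 hm q hp3 n hn hpm hp1m hp1l2 hpn hqn hp3l2).1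
  have hnl1 : l1 ≠ n := by
    rintro rfl
    exact hl34 (huniq p4 hp3 l1 hm hp4l1 p2 hp1 l3 hl2 q hq1 l4 hl4 hp3l2 hp1l2 hp1m hp3l4 hql4 hqn).2
  refine ⟨[(p, n), (q, n), (q, l4), (p4, l4)], ⟨isGal_four.2 ⟨_, _, _, _, rfl, ?_, ?_, ?_, ?_⟩, rfl⟩, ?_⟩
  · exact (fa_j hij).2 ⟨⟨hp, hm, hpm⟩, hn, hpn, rfl, hnl1⟩
  · exact (fa_i hij).2 ⟨⟨hp, hn, hpn⟩, hq1, hqn, rfl, hqp⟩
  · exact (fa_j hij).2 ⟨⟨hq1, hn, hqn⟩, hl4, hql4, rfl, hnl4⟩
  · exact (fa_i hij).2 ⟨⟨hq1, hl4, hql4⟩, hp3, hp3l4, rfl, hqp4⟩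
  · rintro l' ⟨h4, h5⟩
    obtain ⟨⟨q1, m1⟩, ⟨q2, m2⟩, ⟨q3, m3⟩, ⟨q4, m4⟩, rfl, h6, h7, h8, h9⟩ := isGal_four.1 h4
    rw [fa_j hij] at h6 h8
    rw [fa_i hij] at h7 h9
    obtain ⟨-, hm1, hpm1, rfl, hne1⟩ := h6
    obtain ⟨-, hq2, hq2m1, rfl, hne2⟩ := h7
    obtain ⟨-, hm3, hq2m3, rfl, hne3⟩ := h8
    obtain ⟨-, hq4, hq4m3, rfl, hne4⟩ := h9
    have h10 : (q4, m4) = (p4, l4) := h5
    rw [Prod.mk.injEq] at h10
    obtain ⟨rfl, rfl⟩ := h10
    obtain ⟨rfl, rfl⟩ := hqu _ hq2 _ hm1 hpm1 hq2m1 hq2m3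
    rfl

/-- the dual: galleries `j i j i` -/
theorem gal_four' (hij : i ≠ j)
    (hpu : ∀ p ∈ pt, ∀ p' ∈ pt, p ≠ p' → ∀ l ∈ ln, ∀ l' ∈ ln, inc p l → inc p' l → inc p l' → inc p' l' → l = l')
    (hq : ∀ p ∈ pt, ∀ l ∈ ln, ¬ inc p l → ∃ q ∈ pt, ∃ m ∈ ln, inc p m ∧ inc q m ∧ inc q l ∧
      ∀ q' ∈ pt, ∀ m' ∈ ln, inc p m' → inc q' m' → inc q' l → q' = q ∧ m' = m)
    (c : X × Y) (l : List (X × Y)) (hl : IsGal (FA i j pt ln inc) (alt j i 4) c l) :
    ∃! l', IsGal (FA i j pt ln inc) (alt i j 4) c l' ∧ l'.getLastD c = l.getLastD c := by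
  obtain ⟨l', ⟨h1, h2⟩, h3⟩ := gal_four (i := j) (j := i) (pt := ln) (ln := pt) (inc := fun y x => inc x y) hij.symm
    (fun y hy y' hy' hne x hx x' hx' h1 h2 h3 h4 => by
      by_contra hcon
      exact hne (hpu x hx x' hx' hcon y hy y' hy' h1 h3 h2 h4))
    (fun y hy x hx hxy => by
      obtain ⟨q, hq1, m, hm, h1, h2, h3, h4⟩ := hq x hx y hy hxy
      refine ⟨m, hm, q, hq1, h3, h2, h1, fun m' hm' q' hq' h5 h6 h7 => ?_⟩
      exact (h4 q' hq' m' hm' h7 h6 h5).symm) c.swap _ (isGal_swap hl)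
  have key : ∀ l : List (X × Y), (l.map Prod.swap).getLastD c.swap = (l.getLastD c).swap := fun l =>
    getLastD_swap c l
  have key2 : ∀ l : List (Y × X), (l.map Prod.swap).getLastD c = (l.getLastD c.swap).swap := fun l => by
    have := getLastD_swap c.swap l
    rwa [Prod.swap_swap] at this
  refine ⟨l'.map Prod.swap, ⟨?_, ?_⟩, ?_⟩
  · have := isGal_swap h1
    rwa [Prod.swap_swap] at this
  · rw [key2, h2, key, Prod.swap_swap]
  · rintro l'' ⟨h4, h5⟩
    have h6 := h3 (l''.map Prod.swap) ⟨isGal_swap h4, by rw [key, key, h5]⟩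
    rw [← h6, List.map_map]; simp

end geometry

section flags

variable {X Y : Type*} [MulAction G X] [MulAction G Y] {i j : I} {pt : Set X} {ln : Set Y} {inc : X → Y → Prop}
  {p : X} {l : Y}

/-- **generalised quadrangle** -/
theorem _root_.Cfsg.Agent.ParSys.FlagGP.Flags.gpp_four (F : Flags B (P i) (P j) pt ln inc p l)
    (hBP : ∀ i, B ≤ P i) (hij : i ≠ j)
    (hpu : ∀ p ∈ pt, ∀ p' ∈ pt, p ≠ p' → ∀ l ∈ ln, ∀ l' ∈ ln, inc p l → inc p' l → inc p l' → inc p' l' → l = l')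
    (hq : ∀ p ∈ pt, ∀ l ∈ ln, ¬ inc p l → ∃ q ∈ pt, ∃ m ∈ ln, inc p m ∧ inc q m ∧ inc q l ∧
      ∀ q' ∈ pt, ∀ m' ∈ ln, inc p m' → inc q' m' → inc q' l → q' = q ∧ m' = m) :
    GPp B P i j 4 ∧ GPp B P j i 4 :=
  ⟨(F.model hij).gpp hBP fun l hl => gal_four hij hpu hq _ l hl,
    (F.model hij).symm.gpp hBP fun l hl => gal_four' hij hpu hq _ l hl⟩

end flags

end Cfsg.Agent.ParSys.FlagFour

end

section


/-!
# II.0h1, `q = 2`: the digon `(1, 4)` of (21) of #16429 (helper467)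

`XX A = ⟨O₂(C(a)) : a ∈ A⟩`.  If `XX A` centralises `B` and `S` normalises `A` and `B`, then `XX A` normalises
`XX B`, and `(XX B) S`, `(XX A) S` commute: `gpp_digon`.
-/

set_option autoImplicit false
set_option maxHeartbeats 400000
set_option linter.unusedSectionVars false

namespace Cfsg.Agent.Omega.HOneTwo.FDigon

open Subgroup Cfsg.Agent Cfsg.Agent.Omega.BTwo Cfsg.Agent.ParSys Cfsg.Agent.ParSys.RankTwo

universe u v

variable {G : Type u} [Group G]

/-- `⟨O₂(C(a)) : a ∈ A⟩` -/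
def XX (A : Set G) : Subgroup G := closure {x | ∃ a ∈ A, x ∈ O2 (centralizer {a})}

theorem le_XX {A : Set G} {a : G} (ha : a ∈ A) : O2 (centralizer {a}) ≤ XX A :=
  fun _ hx => subset_closure ⟨a, ha, hx⟩

theorem XX_le {A : Set G} {K : Subgroup G} (h : ∀ a ∈ A, O2 (centralizer {a}) ≤ K) : XX A ≤ K := by
  unfold XX
  rw [closure_le]
  rintro x ⟨a, ha, hx⟩
  exact h a ha hx

theorem O2_cent_conj {g a x : G} (hx : x ∈ O2 (centralizer {a})) : g * x * g⁻¹ ∈ O2 (centralizer {g * a * g⁻¹}) := by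
  have h1 : cj g (O2 (centralizer {a})) = O2 (centralizer {g * a * g⁻¹}) := by
    rw [cj_O2]
    congr 1
    ext y
    rw [mem_cj, mem_centralizer_singleton_iff, mem_centralizer_singleton_iff]
    constructor
    · intro h
      calc y * (g * a * g⁻¹) = g * (g⁻¹ * y * g * a) * g⁻¹ := by group
        _ = g * (a * (g⁻¹ * y * g)) * g⁻¹ := by rw [h]
        _ = g * a * g⁻¹ * y := by group
    · intro h
      calc g⁻¹ * y * g * a = g⁻¹ * (y * (g * a * g⁻¹)) * g := by group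
        _ = g⁻¹ * (g * a * g⁻¹ * y) * g := by rw [h]
        _ = a * (g⁻¹ * y * g) := by group
  rw [← h1]
  exact conj_mem_cj hx

/-- whatever normalises `A` normalises `XX A` -/
theorem XX_conj {A : Set G} {g : G} (hg : ∀ a ∈ A, g * a * g⁻¹ ∈ A) {x : G} (hx : x ∈ XX A) :
    g * x * g⁻¹ ∈ XX A := by
  unfold XX at hx
  induction hx using closure_induction with
  | mem x hx =>
    obtain ⟨a, ha, hx⟩ := hx
    exact le_XX (hg a ha) (O2_cent_conj hx)
  | one => rw [mul_one, mul_inv_cancel]; exact one_mem _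
  | mul x y _ _ hx hy =>
    have e : g * (x * y) * g⁻¹ = (g * x * g⁻¹) * (g * y * g⁻¹) := by group
    rw [e]; exact mul_mem hx hy
  | inv x _ hx =>
    have e : g * x⁻¹ * g⁻¹ = (g * x * g⁻¹)⁻¹ := by group
    rw [e]; exact inv_mem hx

/-- `X S` for `S ≤ N(X)` -/
theorem mem_sup_of {X S : Subgroup G} (h : ∀ s ∈ S, ∀ x ∈ X, s * x * s⁻¹ ∈ X) {g : G} (hg : g ∈ X ⊔ S) :
    ∃ x ∈ X, ∃ s ∈ S, g = x * s := by
  let K : Subgroup G :=
    { carrier := {g | ∃ x ∈ X, ∃ s ∈ S, g = x * s}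
      one_mem' := ⟨1, one_mem _, 1, one_mem _, by group⟩
      mul_mem' := by
        rintro _ _ ⟨x, hx, s, hs, rfl⟩ ⟨y, hy, t, ht, rfl⟩
        exact ⟨x * (s * y * s⁻¹), mul_mem hx (h s hs y hy), s * t, mul_mem hs ht, by group⟩
      inv_mem' := by
        rintro _ ⟨x, hx, s, hs, rfl⟩
        refine ⟨s⁻¹ * x⁻¹ * s⁻¹⁻¹, h _ (inv_mem hs) _ (inv_mem hx), s⁻¹, inv_mem hs, by group⟩ }
  have h1 : X ⊔ S ≤ K := sup_le (fun x hx => ⟨x, hx, 1, one_mem _, by group⟩)
    (fun s hs => ⟨1, one_mem _, s, hs, by group⟩)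
  exact h1 hg

/-- **the digon** -/
theorem gpp_of_norm {I : Type v} {P : I → Subgroup G} {i j : I} {S X Y : Subgroup G} (hB : ∀ k, S ≤ P k)
    (hi : P i = Y ⊔ S) (hj : P j = X ⊔ S) (hSX : ∀ s ∈ S, ∀ x ∈ X, s * x * s⁻¹ ∈ X)
    (hSY : ∀ s ∈ S, ∀ y ∈ Y, s * y * s⁻¹ ∈ Y) (hXY : ∀ x ∈ X, ∀ y ∈ Y, x * y * x⁻¹ ∈ Y)
    (hinf : ∀ x, x ∈ P i → x ∈ P j → x ∈ S) : GPp S P i j 2 := by
  apply gpp_two hB hinf
  intro p hp q hq
  rw [hi] at hp
  rw [hj] at hq
  obtain ⟨y, hy, s, hs, rfl⟩ := mem_sup_of hSY hp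
  obtain ⟨x, hx, t, ht, rfl⟩ := mem_sup_of hSX hq
  have hx' := hSX s hs x hx
  have hy' := hXY _ (inv_mem hx') y hy
  refine ⟨s * x * s⁻¹, ?_, (s * x * s⁻¹)⁻¹ * y * (s * x * s⁻¹)⁻¹⁻¹ * (s * t), ?_, by group⟩
  · rw [hj]; exact (le_sup_left : X ≤ X ⊔ S) hx'
  · rw [hi]
    exact mul_mem ((le_sup_left : Y ≤ Y ⊔ S) hy') ((le_sup_right : S ≤ Y ⊔ S) (mul_mem hs ht))

/-- the digon, `X = XX A`, `Y = XX B` -/
theorem gpp_digon {I : Type v} {P : I → Subgroup G} {i j : I} {S : Subgroup G} {A B : Set G} (hB : ∀ k, S ≤ P k)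
    (hi : P i = XX B ⊔ S) (hj : P j = XX A ⊔ S) (hSA : ∀ s ∈ S, ∀ a ∈ A, s * a * s⁻¹ ∈ A)
    (hSB : ∀ s ∈ S, ∀ b ∈ B, s * b * s⁻¹ ∈ B) (hXB : ∀ x ∈ XX A, ∀ b ∈ B, x * b = b * x)
    (hinf : ∀ x, x ∈ P i → x ∈ P j → x ∈ S) : GPp S P i j 2 := by
  refine gpp_of_norm hB hi hj (fun s hs x hx => XX_conj (hSA s hs) hx) (fun s hs x hx => XX_conj (hSB s hs) hx) ?_ hinf
  intro x hx y hy
  refine XX_conj (fun b hb => ?_) hy
  rw [hXB x hx b hb, mul_inv_cancel_right]
  exact hb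

/-- a subgroup of prime index: `X S = P` as soon as `X ≤ P`, `X` is not in `S` -/
theorem sup_eq_of_relIndex [Finite G] {S P X : Subgroup G} (h3 : S.relIndex P = 3) (hSP : S ≤ P) (hX : X ≤ P)
    (hne : ¬ X ≤ S) : P = X ⊔ S := by
  apply le_antisymm _ (sup_le hX hSP)
  have h1 : S ≤ X ⊔ S := le_sup_right
  have h2 : X ⊔ S ≤ P := sup_le hX hSP
  have h4 := Subgroup.relIndex_mul_relIndex S (X ⊔ S) P h1 h2
  rw [h3] at h4
  have h5 : S.relIndex (X ⊔ S) ≠ 1 := by
    intro h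
    rw [Subgroup.relIndex_eq_one] at h
    exact hne (le_sup_left.trans h)
  have h6 : S.relIndex (X ⊔ S) = 1 ∨ S.relIndex (X ⊔ S) = 3 :=
    (Nat.dvd_prime Nat.prime_three).1 ⟨_, h4.symm⟩
  have h7 : (X ⊔ S).relIndex P = 1 := by
    rcases h6 with h | h
    · exact absurd h h5
    · rw [h] at h4; omega
  rwa [Subgroup.relIndex_eq_one] at h7

end Cfsg.Agent.Omega.HOneTwo.FDigon

end
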